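import Cfsg.Agent.H952.F4.FixV_m3
import Cfsg.Agent.H952.F4.Scott_m3
import Cfsg.Agent.H946.KZ.Gap
import Cfsg.Agent.H890.Spr.Sixteen_m3
import Cfsg.Agent.H947.Cv.Ree_mg_m3
import Cfsg.Agent.H682.TE6.Comm_m3
import Cfsg.Agent.H378.OmF4
import Cfsg.Agent.H129.CycCard
import Cfsg.Agent.H129.TorusUntw
import Cfsg.Agent.H129.StabGen
import Cfsg.Agent.H496.Gen.PairSet
import Cfsg.Agent.H795.TorSub
import Cfsg.Agent.H129.CycRow
import Cfsg.Agent.H341.ThreeList_m3
import Cfsg.Agent.H946.ExcNum_m3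
import Cfsg.Agent.H190.Cov.Two.Rad3c
import Cfsg.Agent.H563.KG.Full
import Cfsg.Agent.H394.Wei.Norm
import Cfsg.Agent.Lib.ListFast
import Cfsg.Agent.FastGrp
import Cfsg.Agent.Prune
set_option linter.all false
prune_inst 0x7ffcfcf8abb899dfffff7e7ffed8dffc18919fffe6dff9437fe0e3ff0bdf13000de56b8d09e010fe0ed6e03410b87853fbffeeffea6bdc7ffffd5ff41ffbee0ff5f7b50851d488340fb80fff83f0778e7f3fffffffffffffffffffffffffffbeffbfffffffff
open scoped Cfsg.Agent.FastGrp

-- part: H52/F4Odd/Three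
section
/-!
# S3938, row `F₄(q)`, `q` odd (helper52): elements of prime order `r` with `q` of order 12 modulo `r` have a
3-dimensional fixed space on the 27-dimensional module
-/

set_option autoImplicit false

namespace Cfsg.Agent.H52.F4Odd

open Cfsg Cfsg.Lie Module
open Cfsg.Agent.ChevalleyStructure Cfsg.Agent.ChevalleyStructure.Elts
open Cfsg.Agent.ChevalleyStructure.E6Min.Tables Cfsg.Agent.ChevalleyStructure.E6Min.Basic
open Cfsg.Agent.GpExc.Field (emb)
open Cfsg.Agent.H952.F4 Cfsg.Agent.H952.F4.TabNum Cfsg.Agent.H952.F4.TabLin Cfsg.Agent.H952.F4.TabMult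

universe u

/-- the row with number `n` -/
def rwj (n : ℕ) : ℕ × ℕ × ℕ × ℕ := rowsJ.getD n (8, 8, 8, 8)

/-- the row is zero -/
def isz (n : ℕ) : Bool := n == 0 || n == 4 || n == 8

/-- `c = a + b` (with the shift by 8) -/
def addR (a b c : ℕ × ℕ × ℕ × ℕ) : Bool :=
  (a.1 + b.1 == c.1 + 8) && (a.2.1 + b.2.1 == c.2.1 + 8) && (a.2.2.1 + b.2.2.1 == c.2.2.1 + 8) &&
    (a.2.2.2 + b.2.2.2 == c.2.2.2 + 8)

/-- there is a root `u ≠ s`, `u = s ± z` -/
def nb (z s : ℕ) : Bool := (List.range 27).any fun u => !(u == s) &&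
  (addR (rwj s) (rwj z) (rwj u) || addR (rwj u) (rwj z) (rwj s))

private noncomputable def _root_.Cfsg.Agent.LsF.ff74547_0 : {f // @Cfsg.Agent.H952.F4.TabNum.allLT = f} := ⟨_, by first | (delta Cfsg.Agent.H952.F4.TabNum.allLT Cfsg.Agent.H952.F4.TabNum.allLT._f Nat.brecOn.go Nat.brecOn; rewrite [Cfsg.Agent.LsF.and_eq]; (try delta Cfsg.Agent.H952.F4.TabNum.allLT.match_1); (try delta Nat.casesOn); first | dsimp -zeta only | exact rfl) | exact rfl⟩
private noncomputable def _root_.Cfsg.Agent.LsF.ff74547_1 : {f // @Cfsg.Agent.H52.F4Odd.isz = f} := ⟨_, by first | (delta Cfsg.Agent.H52.F4Odd.isz; rewrite [Cfsg.Agent.LsF.nbeq_pat, Cfsg.Agent.LsF.or_eq]; exact rfl) | exact rfl⟩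
private noncomputable def _root_.Cfsg.Agent.LsF.ff74547_2 : {f // @Cfsg.Agent.H52.F4Odd.addR = f} := ⟨_, by first | (delta Cfsg.Agent.H52.F4Odd.addR; rewrite [Cfsg.Agent.LsF.nadd_pat, Cfsg.Agent.LsF.nbeq_pat, Cfsg.Agent.LsF.and_eq]; exact rfl) | exact rfl⟩
private noncomputable def _root_.Cfsg.Agent.LsF.ff74547_3 : {f // @Cfsg.Agent.H52.F4Odd.rwj = f} := ⟨_, by first | (delta Cfsg.Agent.H52.F4Odd.rwj; rewrite [Cfsg.Agent.LsF.getD_eq]; exact rfl) | exact rfl⟩
private noncomputable def _root_.Cfsg.Agent.LsF.ff74547_4 : {f // @Cfsg.Agent.H52.F4Odd.nb = f} := ⟨_, by first | (delta Cfsg.Agent.H52.F4Odd.nb; rewrite [Cfsg.Agent.LsF.ff74547_2.2, Cfsg.Agent.LsF.ff74547_3.2, Cfsg.Agent.LsF.nbeq_pat, Cfsg.Agent.LsF.and_eq, Cfsg.Agent.LsF.or_eq, Cfsg.Agent.LsF.not_eq, Cfsg.Agent.LsF.any_eq, Cfsg.Agent.LsF.range_eq]; exact rfl) | exact rfl⟩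
theorem chk_path : allLT (fun z => allLT (fun s => isz z || isz s ||
    (List.range 27).any (fun w => nb z w && nb w s)) 27) 27 = true := by
  ((try (rewrite [Cfsg.Agent.LsF.ff74547_0.2, Cfsg.Agent.LsF.ff74547_1.2, Cfsg.Agent.LsF.ff74547_4.2, Cfsg.Agent.LsF.and_eq, Cfsg.Agent.LsF.or_eq, Cfsg.Agent.LsF.any_eq, Cfsg.Agent.LsF.range_eq])); decide +kernel)

theorem chk_simple : allLT (fun i => (List.range 27).any fun s => (List.range 27).any fun t =>
    addR (rwj s) (rwj t) ([(9, 8, 8, 8), (8, 9, 8, 8), (8, 8, 9, 8), (8, 8, 8, 9)].getD i (8, 8, 8, 8))) 4 = true := by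
  decide +kernel

theorem addR_spec {a b c : ℕ × ℕ × ℕ × ℕ} (h : addR a b c = true) {K : Type*} [Field K] (z : Kˣ) (e : Fin 4 → ℕ) :
    val z e a * val z e b = val z e c := by
  unfold addR at h
  simp only [Bool.and_eq_true, beq_iff_eq] at h
  obtain ⟨⟨⟨h1, h2⟩, h3⟩, h4⟩ := h
  unfold val
  rw [← zpow_add]
  congr 1
  have e1 : (a.1 : ℤ) + b.1 = c.1 + 8 := by exact_mod_cast h1
  have e2 : (a.2.1 : ℤ) + b.2.1 = c.2.1 + 8 := by exact_mod_cast h2
  have e3 : (a.2.2.1 : ℤ) + b.2.2.1 = c.2.2.1 + 8 := by exact_mod_cast h3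
  have e4 : (a.2.2.2 : ℤ) + b.2.2.2 = c.2.2.2 + 8 := by exact_mod_cast h4
  linear_combination (e 0 : ℤ) * e1 + (e 1 : ℤ) * e2 + (e 2 : ℤ) * e3 + (e 3 : ℤ) * e4

section comb

variable {K : Type*} [Field K] (z : Kˣ) (a : Fin 4 → ℕ)

/-- the value at `n` -/
def wv (n : Fin 27) : Kˣ := val z a (rwj n)

variable {z a}

theorem wv_nb (hinj : ∀ m n : Fin 27, m ≠ n → wv z a m = wv z a n → wv z a m = 1) {m s : Fin 27}
    (hm : wv z a m = 1) (h : nb m s = true) : wv z a s = 1 := by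
  unfold nb at h
  rw [List.any_eq_true] at h
  obtain ⟨u, hu, h⟩ := h
  rw [List.mem_range] at hu
  rw [Bool.and_eq_true, Bool.or_eq_true, Bool.not_eq_true', beq_eq_false_iff_ne] at h
  obtain ⟨hne, h⟩ := h
  have hne' : s ≠ ⟨u, hu⟩ := fun h' => hne (by rw [h'])
  have e : wv z a s = wv z a ⟨u, hu⟩ := by
    rcases h with h | h
    · have := addR_spec h z a
      change wv z a s * wv z a m = wv z a ⟨u, hu⟩ at this
      rw [← this, hm, mul_one]
    · have := addR_spec h z a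
      change wv z a ⟨u, hu⟩ * wv z a m = wv z a s at this
      rw [← this, hm, mul_one]
  exact hinj s ⟨u, hu⟩ hne' e

theorem wv_all (hinj : ∀ m n : Fin 27, m ≠ n → wv z a m = wv z a n → wv z a m = 1) {m : Fin 27}
    (hz : isz m = false) (hm : wv z a m = 1) (s : Fin 27) (hs : isz s = false) : wv z a s = 1 := by
  have h1 := allLT_spec (allLT_spec chk_path m m.2) s s.2
  simp only [hz, hs, Bool.false_or] at h1
  rw [List.any_eq_true] at h1
  obtain ⟨w, hw, h1⟩ := h1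
  rw [List.mem_range] at hw
  rw [Bool.and_eq_true] at h1
  have h2 : wv z a ⟨w, hw⟩ = 1 := wv_nb hinj hm h1.1
  exact wv_nb hinj h2 h1.2

theorem wv_isz {s : Fin 27} (hs : isz s = true) : wv z a s = 1 := by
  have h : rwj s = (8, 8, 8, 8) := by
    unfold isz at hs
    simp only [Bool.or_eq_true, beq_iff_eq] at hs
    rcases hs with (h | h) | h <;> rw [h] <;> rfl
  unfold wv
  rw [h]
  unfold val
  simp

theorem wv_simple (h : ∀ s : Fin 27, wv z a s = 1) (i : Fin 4) : z ^ a i = 1 := by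
  have h1 := allLT_spec chk_simple i i.2
  rw [List.any_eq_true] at h1
  obtain ⟨s, hs, h1⟩ := h1
  rw [List.any_eq_true] at h1
  obtain ⟨t, ht, h1⟩ := h1
  rw [List.mem_range] at hs ht
  have h2 := addR_spec h1 z a
  have e1 : val z a (rwj s) = 1 := h ⟨s, hs⟩
  have e2 : val z a (rwj t) = 1 := h ⟨t, ht⟩
  rw [e1, e2, mul_one] at h2
  have key : val z a ([(9, 8, 8, 8), (8, 9, 8, 8), (8, 8, 9, 8), (8, 8, 8, 9)].getD i (8, 8, 8, 8)) = z ^ a i := by
    fin_cases i <;> simp [val]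
  rw [← key, ← h2]

/-- powers -/
theorem exists_pow_wv {m : ℕ} (hm0 : 0 < m) (hz : orderOf z = m) (n : Fin 27) : ∃ j : ℕ, wv z a n = z ^ j := by
  have hfin : IsOfFinOrder z := orderOf_pos_iff.1 (by rw [hz]; exact hm0)
  have : wv z a n ∈ Subgroup.zpowers z := by
    unfold wv val
    exact Subgroup.zpow_mem_zpowers _ _
  have h2 := (hfin.mem_powers_iff_mem_zpowers).2 this
  obtain ⟨j, hj⟩ := Submonoid.mem_powers_iff _ _ |>.1 h2
  exact ⟨j, hj.symm⟩

omit z a in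
theorem count_contra {M : Type*} [One M] [DecidableEq M] (w : Fin 27 → M) (S : Finset M) (hS : S.card = 12)
    (h1S : (1 : M) ∉ S) (h2 : ∀ μ ∈ S, 2 ≤ (Finset.univ.filter fun n : Fin 27 => w n = μ).card)
    (h4 : 4 ≤ (Finset.univ.filter fun n : Fin 27 => w n = 1).card) : False := by
  have h5 : ((Finset.univ : Finset (Fin 27)).filter fun n => w n ∈ insert 1 S).card =
      ∑ μ ∈ insert 1 S, (Finset.univ.filter fun n : Fin 27 => w n = μ).card := by
    rw [Finset.card_eq_sum_card_fiberwise (f := w) (t := insert 1 S)]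
    · refine Finset.sum_congr rfl fun μ hμ => ?_
      congr 1
      ext n
      rw [Finset.mem_filter, Finset.mem_filter, Finset.mem_filter]
      constructor
      · exact fun h => ⟨h.1.1, h.2⟩
      · exact fun h => ⟨⟨h.1, by rw [h.2]; exact hμ⟩, h.2⟩
    · intro n hn
      rw [Finset.mem_coe, Finset.mem_filter] at hn
      exact hn.2
  rw [Finset.sum_insert h1S] at h5
  have h6 : 24 ≤ ∑ μ ∈ S, (Finset.univ.filter fun n : Fin 27 => w n = μ).card := by
    have : ∑ μ ∈ S, 2 ≤ ∑ μ ∈ S, (Finset.univ.filter fun n : Fin 27 => w n = μ).card :=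
      Finset.sum_le_sum fun μ hμ => h2 μ hμ
    rw [Finset.sum_const, hS, smul_eq_mul] at this
    exact this
  have h7 : ((Finset.univ : Finset (Fin 27)).filter fun n => w n ∈ insert 1 S).card ≤ 27 := by
    have := Finset.card_filter_le (Finset.univ : Finset (Fin 27)) (fun n => w n ∈ insert 1 S)
    rwa [Finset.card_univ, Fintype.card_fin] at this
  omega

/-- **The combinatorial part.** -/
theorem comb [DecidableEq K] {r q : ℕ} (hr : r.Prime) (hz : orderOf z = r) (h12 : orderOf (q : ZMod r) = 12)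
    (hfr : ∀ j : ℕ, (Finset.univ.filter fun n : Fin 27 => wv z a n = z ^ (q * j)).card =
      (Finset.univ.filter fun n : Fin 27 => wv z a n = z ^ j).card) (hne : ∃ i, z ^ a i ≠ 1) :
    (Finset.univ.filter fun n : Fin 27 => wv z a n = 1).card = 3 := by
  have hrf : Fact r.Prime := ⟨hr⟩
  have hsub : (Finset.univ.filter fun n : Fin 27 => isz n = true) ⊆
      (Finset.univ.filter fun n : Fin 27 => wv z a n = 1) := by
    intro n hn
    rw [Finset.mem_filter] at hn ⊢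
    exact ⟨Finset.mem_univ _, wv_isz hn.2⟩
  have hc3 : (Finset.univ.filter fun n : Fin 27 => isz n = true).card = 3 := by decide
  by_contra hcon
  have h4 : 4 ≤ (Finset.univ.filter fun n : Fin 27 => wv z a n = 1).card := by
    have := Finset.card_le_card hsub
    omega
  have hex : ∃ n : Fin 27, isz n = false ∧ wv z a n = 1 := by
    by_contra hno
    push Not at hno
    have : (Finset.univ.filter fun n : Fin 27 => wv z a n = 1) ⊆ (Finset.univ.filter fun n : Fin 27 => isz n = true) := by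
      intro n hn
      rw [Finset.mem_filter] at hn ⊢
      refine ⟨Finset.mem_univ _, ?_⟩
      by_contra h
      exact hno n (Bool.not_eq_true _ ▸ h) hn.2
    have := Finset.card_le_card this
    omega
  obtain ⟨n, hn0, hn1⟩ := hex
  have hinj : ∀ m n : Fin 27, m ≠ n → wv z a m = wv z a n → wv z a m = 1 := by
    intro m n hmn hval
    by_contra hne1
    obtain ⟨j, hj⟩ := exists_pow_wv (a := a) hr.pos hz m
    have hrj : ¬ r ∣ j := by
      intro h
      apply hne1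
      rw [hj, ← orderOf_dvd_iff_pow_eq_one, hz]
      exact h
    have hN : ∀ i : ℕ, 2 ≤ (Finset.univ.filter fun n : Fin 27 => wv z a n = z ^ (q ^ i * j)).card := by
      intro i
      induction i with
      | zero =>
        rw [pow_zero, one_mul]
        have : ({m, n} : Finset (Fin 27)) ⊆ (Finset.univ.filter fun n : Fin 27 => wv z a n = z ^ j) := by
          intro x hx
          rw [Finset.mem_insert, Finset.mem_singleton] at hx
          rw [Finset.mem_filter]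
          refine ⟨Finset.mem_univ _, ?_⟩
          rcases hx with rfl | rfl
          · exact hj
          · rw [← hval]; exact hj
        have := Finset.card_le_card this
        rwa [Finset.card_pair hmn] at this
      | succ i ih =>
        rw [pow_succ', mul_assoc, hfr]
        exact ih
    have hjz : ((j : ℕ) : ZMod r) ≠ 0 := by
      rwa [Ne, ZMod.natCast_eq_zero_iff]
    have hq0 : (q : ZMod r) ≠ 0 := by
      intro h0
      rw [h0, orderOf_zero] at h12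
      omega
    have hpowinj : Set.InjOn (fun i : ℕ => z ^ (q ^ i * j)) (Finset.range 12 : Finset ℕ) := by
      intro i hi i' hi' h
      rw [Finset.coe_range, Set.mem_Iio] at hi hi'
      simp only at h
      rw [pow_eq_pow_iff_modEq, hz, ← ZMod.natCast_eq_natCast_iff, Nat.cast_mul, Nat.cast_mul, Nat.cast_pow,
        Nat.cast_pow] at h
      have h' := mul_right_cancel₀ hjz h
      exact pow_injOn_Iio_orderOf (by rw [h12]; exact hi) (by rw [h12]; exact hi') h'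
    have hne1' : ∀ i, z ^ (q ^ i * j) ≠ 1 := by
      intro i h
      rw [← orderOf_dvd_iff_pow_eq_one, hz] at h
      rcases (Nat.Prime.dvd_mul hr).1 h with h | h
      · have := hr.dvd_of_dvd_pow h
        exact hq0 ((ZMod.natCast_eq_zero_iff _ _).2 this)
      · exact hrj h
    have hS : ((Finset.range 12).image fun i : ℕ => z ^ (q ^ i * j)).card = 12 := by
      rw [Finset.card_image_of_injOn hpowinj, Finset.card_range]
    exact count_contra (fun n => wv z a n) _ hS (fun h => by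
      obtain ⟨i, _, hi⟩ := Finset.mem_image.1 h
      exact hne1' i hi) (fun μ hμ => by
      obtain ⟨i, _, rfl⟩ := Finset.mem_image.1 hμ
      exact hN i) h4
  have hall : ∀ s : Fin 27, wv z a s = 1 := by
    intro s
    cases hs : isz s with
    | true => exact wv_isz hs
    | false => exact wv_all hinj hn0 hn1 s hs
  obtain ⟨i, hi⟩ := hne
  exact hi (wv_simple hall i)

end comb

/-- number of indices -/
theorem card_fin {K : Type*} [Field K] [DecidableEq K] {z : Kˣ} {m : ℕ} (hz : orderOf z = m) (a : Fin 4 → ℕ) (j : ℕ) :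
    (Finset.univ.filter fun n : Fin 27 => wv z a n = z ^ j).card = nn rowsJ m j (a 0) (a 1) (a 2) (a 3) := by
  unfold nn
  rw [cnt_eq, rowsJ_ofFn, countP_ofFn, Finset.card_filter]
  refine Finset.sum_congr rfl fun n _ => ?_
  exact if_congr (val_eq_iff hz a _ j) rfl rfl

section main

variable {F : Type u} [Field F] {ρ : ↥(chevF4.group F) →* GL I27 F}

/-- invariance under the Frobenius automorphism -/
theorem ev_frob {K : Type u} [Field K] (f : F →+* K) {ρ' : ↥(chevF4.group K) →* GL I27 K} (hρ : IsJ ρ)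
    (hρ' : IsJ ρ') (φ : K →+* K) (hφ : ∀ x, φ (f x) = f x) (s : ↥(chevF4.group F)) (μ : K) :
    ev (JK ρ' (emb hF4 f s)) (φ μ) = ev (JK ρ' (emb hF4 f s)) μ := by
  have h1 : JK ρ' (emb hF4 f s) = Matrix.toLin' (((ρ s : GL I27 F) : Matrix I27 I27 F).map f) := by
    rw [← H815.F4Chg.J_map f hρ hρ' s]
    rfl
  have h2 := H815.F4Chg.ev_map φ (((ρ s : GL I27 F) : Matrix I27 I27 F).map f) μ
  have h3 : (((ρ s : GL I27 F) : Matrix I27 I27 F).map f).map φ = ((ρ s : GL I27 F) : Matrix I27 I27 F).map f := by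
    ext i j
    simp only [Matrix.map_apply]
    exact hφ _
  rw [h3] at h2
  rw [h1]
  exact h2

/-- **The fixed space is 3-dimensional.** -/
theorem ev_three (p : ℕ) [Fact p.Prime] [Finite F] [CharP F p] (hρ : IsJ ρ) {r : ℕ} (hr : r.Prime)
    (h12 : orderOf ((Nat.card F : ℕ) : ZMod r) = 12) {s : ↥(chevF4.group F)} (hs1 : s ≠ 1) (hs : s ^ r = 1) :
    ev (JK ρ s) 1 = 3 := by
  classical
  have hrf : Fact r.Prime := ⟨hr⟩
  have := Fintype.ofFinite F
  set K := AlgebraicClosure F with hKdef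
  have hch : CharP K p := charP_of_injective_algebraMap (algebraMap F K).injective p
  have hK : BpExc.TorAll.HAlg p K := Cfsg.Agent.H944.RootVals.hAlg_closure p F
  set f : F →+* K := algebraMap F K with hf
  obtain ⟨ρ', hρ'⟩ := JMod.exists_isJ K
  obtain ⟨n, hp, hn⟩ := FiniteField.card F p
  rw [← Nat.card_eq_fintype_card] at hn
  have hrp : r.Coprime p := by
    rw [Nat.coprime_primes hr hp]
    rintro rfl
    rw [hn, Nat.cast_pow, CharP.cast_eq_zero, zero_pow n.pos.ne', orderOf_zero] at h12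
    omega
  obtain ⟨ζ, hζ, hmul⟩ := Tor.exists_root p hK hρ' hr.ne_zero hrp
  set X := emb hF4 f s with hX
  have hXr : X ^ r = 1 := by rw [hX, ← map_pow, hs, map_one]
  have hX1 : X ≠ 1 := fun h => hs1 (Cfsg.Agent.GpExc.Field.emb_injective hF4 f (by rw [← hX, h, map_one]))
  obtain ⟨a, ha⟩ := hmul X hXr
  have hζ0 : ζ ≠ 0 := hζ.ne_zero hr.ne_zero
  let z : Kˣ := Units.mk0 ζ hζ0
  have hz : orderOf z = r := by rw [← orderOf_units]; exact hζ.eq_orderOf.symm
  have hcard : ∀ j : ℕ, (Finset.univ.filter fun n : Fin 27 => wv z a n = z ^ j).card = ev (JK ρ' X) (ζ ^ j) := by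
    intro j
    rw [card_fin hz, ha.evJ]
  let φ : K →+* K := iterateFrobenius K p n
  have hφ : ∀ x, φ (f x) = f x := by
    intro x
    change (iterateFrobenius K p n) (f x) = f x
    rw [iterateFrobenius_def, ← map_pow, ← hn, Nat.card_eq_fintype_card, FiniteField.pow_card]
  have h1 := comb (z := z) (a := a) hr hz h12 (by
    intro j
    rw [hcard, hcard]
    have := ev_frob f hρ hρ' φ hφ s (ζ ^ j)
    rw [← hX] at this
    rw [← this]
    congr 1
    change _ = (iterateFrobenius K p n) (ζ ^ j)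
    rw [iterateFrobenius_def, ← hn, ← pow_mul, mul_comm]) (by
    by_contra hno
    push Not at hno
    refine hX1 ?_
    have := ha.ord 1 (fun i => by
      rw [one_mul, ← hz]
      exact orderOf_dvd_of_pow_eq_one (hno i))
    rwa [pow_one] at this)
  have h2 := hcard 0
  rw [pow_zero, pow_zero, h1] at h2
  have h3 := Chg.ev_J f hρ hρ' s 1
  rw [map_one, ← hX, ← h2] at h3
  exact h3.symm

end main

end Cfsg.Agent.H52.F4Odd
end

-- part: H52/F4Odd/Lin
section
/-!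
# S3938, row `F₄(q)`, `q` odd (helper52): linear algebra of a 15-dimensional space
-/

set_option autoImplicit false

namespace Cfsg.Agent.H52.F4Odd

open Module Cfsg.Agent.H952.F4

section gen

variable {F V : Type*} [Field F] [AddCommGroup V] [Module F V]

theorem mem_one {T : Module.End F V} {v : V} : v ∈ es T 1 ↔ T v = v := by
  unfold es
  rw [Module.End.mem_eigenspace_iff, one_smul]

theorem mem_neg {T : Module.End F V} {v : V} : v ∈ es T (-1) ↔ T v = -v := by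
  unfold es
  rw [Module.End.mem_eigenspace_iff, neg_smul, one_smul]

variable [FiniteDimensional F V]

/-- the eigenspaces of an involution -/
theorem split (h2 : (2 : F) ≠ 0) (U : Submodule F V) (T : Module.End F V) (hU : ∀ u ∈ U, T u ∈ U)
    (hT : ∀ u ∈ U, T (T u) = u) :
    finrank F ↥(U ⊓ es T 1) + finrank F ↥(U ⊓ es T (-1)) = finrank F ↥U := by
  have h := Submodule.finrank_sup_add_finrank_inf_eq (U ⊓ es T 1) (U ⊓ es T (-1))
  have h1 : (U ⊓ es T 1) ⊓ (U ⊓ es T (-1)) = ⊥ := by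
    rw [eq_bot_iff]
    rintro v ⟨⟨_, hv1⟩, ⟨_, hv2⟩⟩
    rw [SetLike.mem_coe, mem_one] at hv1
    rw [SetLike.mem_coe, mem_neg, hv1] at hv2
    rw [Submodule.mem_bot]
    have h3 : (2 : F) • v = 0 := by
      rw [two_smul]
      nth_rewrite 1 [hv2]
      exact neg_add_cancel v
    exact (smul_eq_zero.1 h3).resolve_left h2
  have h3 : (U ⊓ es T 1) ⊔ (U ⊓ es T (-1)) = U := by
    refine le_antisymm (sup_le inf_le_left inf_le_left) ?_
    intro v hv
    have e : v = (2 : F)⁻¹ • (v + T v) + (2 : F)⁻¹ • (v - T v) := by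
      rw [← smul_add]
      have : v + T v + (v - T v) = (2 : F) • v := by rw [two_smul]; abel
      rw [this, smul_smul, inv_mul_cancel₀ h2, one_smul]
    rw [e]
    refine Submodule.add_mem_sup ?_ ?_
    · refine ⟨U.smul_mem _ (U.add_mem hv (hU v hv)), ?_⟩
      rw [SetLike.mem_coe, mem_one, map_smul, map_add, hT v hv, add_comm]
    · refine ⟨U.smul_mem _ (U.sub_mem hv (hU v hv)), ?_⟩
      rw [SetLike.mem_coe, mem_neg, map_smul, map_sub, hT v hv, ← smul_neg, neg_sub]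
  rw [h1, h3, finrank_bot, add_zero] at h
  exact h.symm

omit [FiniteDimensional F V] in
/-- the action of an element of prime order `r` on a small subspace is trivial -/
theorem small [Finite F] [FiniteDimensional F V] {r e : ℕ} (hr : r.Prime)
    (he : orderOf ((Nat.card F : ℕ) : ZMod r) = e) (P : Submodule F V) (T : Module.End F V) (hP : ∀ u ∈ P, T u ∈ P)
    (hT : ∀ u ∈ P, (T ^ r) u = u) (hd : finrank F ↥P < e) : ∀ u ∈ P, T u = u := by
  classical
  have hrf : Fact r.Prime := ⟨hr⟩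
  have hfV : Finite V := Module.finite_of_finite F
  have hfP : Fintype ↥P := Fintype.ofFinite _
  let T' : ↥P →ₗ[F] ↥P := T.restrict hP
  have hT' : T' ^ r = 1 := by
    have h1 : ∀ n : ℕ, ∀ u : ↥P, (((T' ^ n) u : ↥P) : V) = (T ^ n) (u : V) := by
      intro n
      induction n with
      | zero => intro u; rfl
      | succ n ih =>
        intro u
        rw [pow_succ', pow_succ', Module.End.mul_apply, Module.End.mul_apply, ← ih u]
        rfl
    ext u
    rw [h1, hT u u.2]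
    rfl
  let f : Function.End ↥P := fun u => T' u
  have hf : f ^ r ^ 1 = 1 := by
    have h1 : ∀ n : ℕ, ∀ u : ↥P, (f ^ n) u = (T' ^ n) u := by
      intro n
      induction n with
      | zero => intro u; rfl
      | succ n ih =>
        intro u
        rw [pow_succ', pow_succ']
        change T' ((f ^ n) u) = T' ((T' ^ n) u)
        rw [ih u]
    funext u
    rw [pow_one, h1, hT']
    rfl
  let C : Submodule F ↥P := es T' 1
  have hfC : Fintype ↥C := Fintype.ofFinite _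
  have hc := Equiv.Perm.card_fixedPoints_modEq (p := r) (n := 1) hf
  have hcC : Fintype.card (Function.fixedPoints f) = Nat.card F ^ finrank F ↥C := by
    have h1 : Nat.card ↥C = Nat.card F ^ finrank F ↥C := Module.natCard_eq_pow_finrank
    rw [← h1, ← Nat.card_eq_fintype_card]
    refine Nat.card_congr (Equiv.subtypeEquivRight fun u => ?_)
    change T' u = u ↔ u ∈ es T' 1
    rw [mem_one]
  have hcP : Fintype.card ↥P = Nat.card F ^ finrank F ↥P := by
    rw [← Nat.card_eq_fintype_card]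
    exact Module.natCard_eq_pow_finrank
  rw [hcC, hcP, ← ZMod.natCast_eq_natCast_iff, Nat.cast_pow, Nat.cast_pow] at hc
  have hle : finrank F ↥C ≤ finrank F ↥P := Submodule.finrank_le C
  have heq : finrank F ↥P = finrank F ↥C :=
    pow_injOn_Iio_orderOf (x := ((Nat.card F : ℕ) : ZMod r)) (by rw [he]; exact hd)
      (by rw [he]; exact lt_of_le_of_lt hle hd) hc
  have hCtop : C = ⊤ := Submodule.eq_top_of_finrank_eq heq.symm
  intro u hu
  have h1 : (⟨u, hu⟩ : ↥P) ∈ C := by rw [hCtop]; trivial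
  have h2 : T' ⟨u, hu⟩ = ⟨u, hu⟩ := mem_one.1 h1
  exact congrArg Subtype.val h2

end gen

section quat

variable {F V G : Type*} [Field F] [Finite F] [AddCommGroup V] [Module F V] [FiniteDimensional F V] [Group G]
  (ρ : Representation F G V)

/-- **The element `g`.** -/
theorem exists_fifteen (h2 : (2 : F) ≠ 0) {j a₁ a₂ b₁ b₂ : G} (ha1 : a₁ * a₁ = j) (ha2 : a₂ * a₂ = j)
    (ha3 : (a₁ * a₂) * (a₁ * a₂) = j) (hb1 : b₁ * b₁ = j) (hb2 : b₂ * b₂ = j) (hb3 : (b₁ * b₂) * (b₁ * b₂) = j)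
    {r : ℕ} (hr : r.Prime) (h6 : orderOf ((Nat.card F : ℕ) : ZMod r) = 6)
    (hc1 : b₁ ∈ Subgroup.closure {y : G | y * a₁ = a₁ * y ∧ y * a₂ = a₂ * y ∧ y ^ r = 1})
    (hc2 : b₂ ∈ Subgroup.closure {y : G | y * a₁ = a₁ * y ∧ y * a₂ = a₂ * y ∧ y ^ r = 1})
    (hj : ev (ρ j) 1 = 15) (htab : ∀ g : G, g * g = j → ev (ρ g) 1 = 7 ∨ ev (ρ g) 1 = 9 ∨ ev (ρ g) 1 = 15) :
    ∃ g : G, g * g = j ∧ ev (ρ g) 1 = 15 := by
  by_contra hcon
  push Not at hcon
  have htab' : ∀ g : G, g * g = j → ev (ρ g) 1 = 7 ∨ ev (ρ g) 1 = 9 := fun g hg => by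
    rcases htab g hg with h | h | h
    · exact Or.inl h
    · exact Or.inr h
    · exact absurd h (hcon g hg)
  have ev_def : ∀ g : G, ev (ρ g) 1 = finrank F ↥(es (ρ g) 1) := fun g => rfl
  set W := es (ρ j) 1 with hW
  set A := ρ a₁ with hA
  set B := ρ a₂ with hB
  -- squares of the elements with `g * g = j` are trivial on `W`
  have hsq : ∀ g : G, g * g = j → ∀ w ∈ W, ρ g (ρ g w) = w := by
    intro g hg w hw
    rw [← Module.End.mul_apply, ← map_mul, hg]
    exact mem_one.1 hw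
  have hinW : ∀ g : G, g * g = j → ∀ w ∈ W, ρ g w ∈ W := by
    intro g hg w hw
    rw [hW, mem_one, ← Module.End.mul_apply, ← map_mul]
    have : j * g = g * j := by rw [← hg, mul_assoc]
    rw [this, map_mul, Module.End.mul_apply, mem_one.1 hw]
  have hleW : ∀ g : G, g * g = j → es (ρ g) 1 ≤ W := by
    intro g hg w hw
    rw [hW, mem_one, ← hg, map_mul, Module.End.mul_apply, mem_one.1 hw, mem_one.1 hw]
  have hAB : ∀ w ∈ W, A (B w) = B (A w) := by
    intro w hw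
    have h1 := hsq (a₁ * a₂) ha3 w hw
    rw [map_mul, Module.End.mul_apply, Module.End.mul_apply] at h1
    change A (B (A (B w))) = w at h1
    have h3 : B (A (B w)) = A w := by
      rw [← hsq a₁ ha1 (B (A (B w))) (hinW a₂ ha2 _ (hinW a₁ ha1 _ (hinW a₂ ha2 _ hw)))]
      change A (A (B (A (B w)))) = A w
      rw [h1]
    rw [← hsq a₂ ha2 (A (B w)) (hinW a₁ ha1 _ (hinW a₂ ha2 _ hw))]
    change B (B (A (B w))) = _
    rw [h3]
  -- the four eigenspaces
  set pp := (W ⊓ es A 1) ⊓ es B 1 with hpp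
  set pm := (W ⊓ es A 1) ⊓ es B (-1) with hpm
  set mp := (W ⊓ es A (-1)) ⊓ es B 1 with hmp
  set mm := (W ⊓ es A (-1)) ⊓ es B (-1) with hmm
  have s1 : finrank F ↥(W ⊓ es A 1) + finrank F ↥(W ⊓ es A (-1)) = finrank F ↥W :=
    split h2 W A (hinW a₁ ha1) (hsq a₁ ha1)
  have s2 : finrank F ↥pp + finrank F ↥pm = finrank F ↥(W ⊓ es A 1) := by
    refine split h2 (W ⊓ es A 1) B ?_ (fun u hu => hsq a₂ ha2 u hu.1)
    intro u hu
    refine ⟨hinW a₂ ha2 u hu.1, ?_⟩
    rw [SetLike.mem_coe, mem_one, hAB u hu.1, mem_one.1 hu.2]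
  have s3 : finrank F ↥mp + finrank F ↥mm = finrank F ↥(W ⊓ es A (-1)) := by
    refine split h2 (W ⊓ es A (-1)) B ?_ (fun u hu => hsq a₂ ha2 u hu.1)
    intro u hu
    refine ⟨hinW a₂ ha2 u hu.1, ?_⟩
    rw [SetLike.mem_coe, mem_neg, hAB u hu.1, mem_neg.1 hu.2, map_neg]
  have s4 : finrank F ↥pp + finrank F ↥mp = finrank F ↥(W ⊓ es B 1) := by
    have := split h2 (W ⊓ es B 1) A (by
      intro u hu
      refine ⟨hinW a₁ ha1 u hu.1, ?_⟩
      rw [SetLike.mem_coe, mem_one, ← hAB u hu.1, mem_one.1 hu.2]) (fun u hu => hsq a₁ ha1 u hu.1)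
    rw [inf_right_comm, inf_right_comm W (es B 1)] at this
    exact this
  have s5 : finrank F ↥pp + finrank F ↥mm = finrank F ↥(W ⊓ es (ρ (a₁ * a₂)) 1) := by
    have h := split h2 (W ⊓ es (ρ (a₁ * a₂)) 1) A (by
      intro u hu
      refine ⟨hinW a₁ ha1 u hu.1, ?_⟩
      have h1 := mem_one.1 hu.2
      rw [map_mul, Module.End.mul_apply] at h1
      rw [SetLike.mem_coe, mem_one, map_mul, Module.End.mul_apply]
      change A (B (A u)) = A u
      rw [← hAB u hu.1]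
      change A (B u) = u at h1
      rw [h1]) (fun u hu => hsq a₁ ha1 u hu.1)
    have e1 : (W ⊓ es (ρ (a₁ * a₂)) 1) ⊓ es A 1 = pp := by
      ext u
      constructor
      · rintro ⟨⟨h1, h2'⟩, h3⟩
        refine ⟨⟨h1, h3⟩, ?_⟩
        rw [SetLike.mem_coe, mem_one] at h2' h3 ⊢
        rw [map_mul, Module.End.mul_apply] at h2'
        change A (B u) = u at h2'
        rw [hAB u h1] at h2'
        rwa [h3] at h2'
      · rintro ⟨⟨h1, h3⟩, h4⟩
        refine ⟨⟨h1, ?_⟩, h3⟩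
        rw [SetLike.mem_coe, mem_one] at h4 h3 ⊢
        rw [map_mul, Module.End.mul_apply]
        change A (B u) = u
        rw [h4, h3]
    have e2 : (W ⊓ es (ρ (a₁ * a₂)) 1) ⊓ es A (-1) = mm := by
      ext u
      constructor
      · rintro ⟨⟨h1, h2'⟩, h3⟩
        refine ⟨⟨h1, h3⟩, ?_⟩
        rw [SetLike.mem_coe, mem_one] at h2'
        rw [SetLike.mem_coe, mem_neg] at h3 ⊢
        rw [map_mul, Module.End.mul_apply] at h2'
        change A (B u) = u at h2'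
        rw [hAB u h1, h3, map_neg] at h2'
        rw [← h2', neg_neg]
        exact congrArg B h2'
      · rintro ⟨⟨h1, h3⟩, h4⟩
        refine ⟨⟨h1, ?_⟩, h3⟩
        rw [SetLike.mem_coe, mem_neg] at h4 h3
        rw [SetLike.mem_coe, mem_one]
        rw [map_mul, Module.End.mul_apply]
        change A (B u) = u
        rw [h4, map_neg, h3, neg_neg]
    rw [e1, e2] at h
    exact h
  have t1 : finrank F ↥(W ⊓ es A 1) = ev (ρ a₁) 1 := by
    rw [inf_eq_right.2 (hleW a₁ ha1)]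
    rfl
  have t2 : finrank F ↥(W ⊓ es B 1) = ev (ρ a₂) 1 := by
    rw [inf_eq_right.2 (hleW a₂ ha2)]
    rfl
  have t3 : finrank F ↥(W ⊓ es (ρ (a₁ * a₂)) 1) = ev (ρ (a₁ * a₂)) 1 := by
    rw [inf_eq_right.2 (hleW _ ha3)]
    rfl
  have t0 : finrank F ↥W = 15 := hj
  have u1 := htab' a₁ ha1
  have u2 := htab' a₂ ha2
  have u3 := htab' _ ha3
  -- elements of order `r` commuting with `a₁`, `a₂`
  have hgen : ∀ y : G, y * a₁ = a₁ * y → y * a₂ = a₂ * y → y ^ r = 1 → ∀ u : V, (u ∈ pm ∨ u ∈ mp ∨ u ∈ mm) →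
      ρ y u = u := by
    intro y hy1 hy2 hyr
    have hyA : ∀ v : V, ρ y (A v) = A (ρ y v) := by
      intro v
      rw [hA, ← Module.End.mul_apply, ← map_mul, hy1, map_mul, Module.End.mul_apply]
    have hyB : ∀ v : V, ρ y (B v) = B (ρ y v) := by
      intro v
      rw [hB, ← Module.End.mul_apply, ← map_mul, hy2, map_mul, Module.End.mul_apply]
    have hyW : ∀ w ∈ W, ρ y w ∈ W := by
      intro w hw
      rw [hW, mem_one, ← ha1, map_mul, Module.End.mul_apply]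
      change A (A (ρ y w)) = ρ y w
      rw [← hyA, ← hyA]
      exact congrArg (ρ y) (hsq a₁ ha1 w hw)
    have hyr' : ∀ u : V, (ρ y ^ r) u = u := by
      intro u
      rw [← map_pow, hyr, map_one]
      rfl
    rintro u (hu | hu | hu)
    · refine small hr h6 pm (ρ y) ?_ (fun u _ => hyr' u) (by omega) u hu
      rintro v ⟨⟨h1, h3⟩, h4⟩
      rw [SetLike.mem_coe, mem_one] at h3
      rw [SetLike.mem_coe, mem_neg] at h4
      refine ⟨⟨hyW v h1, ?_⟩, ?_⟩
      · rw [SetLike.mem_coe, mem_one, ← hyA, h3]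
      · rw [SetLike.mem_coe, mem_neg, ← hyB, h4, map_neg]
    · refine small hr h6 mp (ρ y) ?_ (fun u _ => hyr' u) (by (clear * - s1 s3 s4 s5 t1 t2 t3 t0 u1 u2 u3; omega)) u hu
      rintro v ⟨⟨h1, h3⟩, h4⟩
      rw [SetLike.mem_coe, mem_neg] at h3
      rw [SetLike.mem_coe, mem_one] at h4
      refine ⟨⟨hyW v h1, ?_⟩, ?_⟩
      · rw [SetLike.mem_coe, mem_neg, ← hyA, h3, map_neg]
      · rw [SetLike.mem_coe, mem_one, ← hyB, h4]
    · refine small hr h6 mm (ρ y) ?_ (fun u _ => hyr' u) (by omega) u hu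
      rintro v ⟨⟨h1, h3⟩, h4⟩
      rw [SetLike.mem_coe, mem_neg] at h3
      rw [SetLike.mem_coe, mem_neg] at h4
      refine ⟨⟨hyW v h1, ?_⟩, ?_⟩
      · rw [SetLike.mem_coe, mem_neg, ← hyA, h3, map_neg]
      · rw [SetLike.mem_coe, mem_neg, ← hyB, h4, map_neg]
  -- the elements of the closure
  have hcl : ∀ b ∈ Subgroup.closure {y : G | y * a₁ = a₁ * y ∧ y * a₂ = a₂ * y ∧ y ^ r = 1},
      (b * a₁ = a₁ * b ∧ b * a₂ = a₂ * b) ∧ ∀ u : V, (u ∈ pm ∨ u ∈ mp ∨ u ∈ mm) → ρ b u = u := by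
    intro b hb
    induction hb using Subgroup.closure_induction with
    | mem y hy => exact ⟨⟨hy.1, hy.2.1⟩, hgen y hy.1 hy.2.1 hy.2.2⟩
    | one => exact ⟨⟨by rw [one_mul, mul_one], by rw [one_mul, mul_one]⟩, fun u _ => by rw [map_one]; rfl⟩
    | mul x y _ _ hx hy =>
      refine ⟨⟨?_, ?_⟩, fun u hu => ?_⟩
      · rw [mul_assoc, hy.1.1, ← mul_assoc, hx.1.1, mul_assoc]
      · rw [mul_assoc, hy.1.2, ← mul_assoc, hx.1.2, mul_assoc]
      · rw [map_mul, Module.End.mul_apply, hy.2 u hu, hx.2 u hu]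
    | inv x _ hx =>
      refine ⟨⟨?_, ?_⟩, fun u hu => ?_⟩
      · rw [inv_mul_eq_iff_eq_mul, ← mul_assoc, hx.1.1, mul_assoc, mul_inv_cancel, mul_one]
      · rw [inv_mul_eq_iff_eq_mul, ← mul_assoc, hx.1.2, mul_assoc, mul_inv_cancel, mul_one]
      · have h1 : ρ x⁻¹ (ρ x u) = u := by
          rw [← Module.End.mul_apply, ← map_mul, inv_mul_cancel, map_one]
          rfl
        rw [hx.2 u hu] at h1
        exact h1
  -- dimension of the fixed space of such an element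
  have hkey : ∀ b : G, b * b = j → (b * a₁ = a₁ * b ∧ b * a₂ = a₂ * b) →
      (∀ u : V, (u ∈ pm ∨ u ∈ mp ∨ u ∈ mm) → ρ b u = u) →
      ev (ρ b) 1 = finrank F ↥(pp ⊓ es (ρ b) 1) + (finrank F ↥pm + (finrank F ↥mp + finrank F ↥mm)) := by
    intro b hb hcom htriv
    have hbA : ∀ v : V, ρ b (A v) = A (ρ b v) := by
      intro v
      rw [hA, ← Module.End.mul_apply, ← map_mul, hcom.1, map_mul, Module.End.mul_apply]
    have hbB : ∀ v : V, ρ b (B v) = B (ρ b v) := by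
      intro v
      rw [hB, ← Module.End.mul_apply, ← map_mul, hcom.2, map_mul, Module.End.mul_apply]
    set E := es (ρ b) 1 with hE
    have hEW : E ≤ W := hleW b hb
    have r1 : finrank F ↥(E ⊓ es A 1) + finrank F ↥(E ⊓ es A (-1)) = finrank F ↥E := by
      refine split h2 E A ?_ (fun u hu => hsq a₁ ha1 u (hEW hu))
      intro u hu
      rw [hE, mem_one, hbA, mem_one.1 hu]
    have r2 : finrank F ↥((E ⊓ es A 1) ⊓ es B 1) + finrank F ↥((E ⊓ es A 1) ⊓ es B (-1)) =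
        finrank F ↥(E ⊓ es A 1) := by
      refine split h2 (E ⊓ es A 1) B ?_ (fun u hu => hsq a₂ ha2 u (hEW hu.1))
      intro u hu
      refine ⟨?_, ?_⟩
      · rw [SetLike.mem_coe, hE, mem_one, hbB, mem_one.1 hu.1]
      · rw [SetLike.mem_coe, mem_one, hAB u (hEW hu.1), mem_one.1 hu.2]
    have r3 : finrank F ↥((E ⊓ es A (-1)) ⊓ es B 1) + finrank F ↥((E ⊓ es A (-1)) ⊓ es B (-1)) =
        finrank F ↥(E ⊓ es A (-1)) := by
      refine split h2 (E ⊓ es A (-1)) B ?_ (fun u hu => hsq a₂ ha2 u (hEW hu.1))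
      intro u hu
      refine ⟨?_, ?_⟩
      · rw [SetLike.mem_coe, hE, mem_one, hbB, mem_one.1 hu.1]
      · rw [SetLike.mem_coe, mem_neg, hAB u (hEW hu.1), mem_neg.1 hu.2, map_neg]
    have q1 : (E ⊓ es A 1) ⊓ es B 1 = pp ⊓ E := by
      ext u
      constructor
      · rintro ⟨⟨h1, h3⟩, h4⟩
        exact ⟨⟨⟨hEW h1, h3⟩, h4⟩, h1⟩
      · rintro ⟨⟨⟨_, h3⟩, h4⟩, h1⟩
        exact ⟨⟨h1, h3⟩, h4⟩
    have q2 : (E ⊓ es A 1) ⊓ es B (-1) = pm := by
      ext u
      constructor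
      · rintro ⟨⟨h1, h3⟩, h4⟩
        exact ⟨⟨hEW h1, h3⟩, h4⟩
      · rintro ⟨⟨h1, h3⟩, h4⟩
        refine ⟨⟨?_, h3⟩, h4⟩
        rw [SetLike.mem_coe, hE, mem_one]
        exact htriv u (Or.inl ⟨⟨h1, h3⟩, h4⟩)
    have q3 : (E ⊓ es A (-1)) ⊓ es B 1 = mp := by
      ext u
      constructor
      · rintro ⟨⟨h1, h3⟩, h4⟩
        exact ⟨⟨hEW h1, h3⟩, h4⟩
      · rintro ⟨⟨h1, h3⟩, h4⟩
        refine ⟨⟨?_, h3⟩, h4⟩
        rw [SetLike.mem_coe, hE, mem_one]
        exact htriv u (Or.inr (Or.inl ⟨⟨h1, h3⟩, h4⟩))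
    have q4 : (E ⊓ es A (-1)) ⊓ es B (-1) = mm := by
      ext u
      constructor
      · rintro ⟨⟨h1, h3⟩, h4⟩
        exact ⟨⟨hEW h1, h3⟩, h4⟩
      · rintro ⟨⟨h1, h3⟩, h4⟩
        refine ⟨⟨?_, h3⟩, h4⟩
        rw [SetLike.mem_coe, hE, mem_one]
        exact htriv u (Or.inr (Or.inr ⟨⟨h1, h3⟩, h4⟩))
    rw [q1, q2] at r2
    rw [q3, q4] at r3
    change finrank F ↥E = _
    (clear * - r1 r2 r3; omega)
  have hpb : ∀ b : G, b * b = j → (b * a₁ = a₁ * b ∧ b * a₂ = a₂ * b) →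
      (∀ u : V, (u ∈ pm ∨ u ∈ mp ∨ u ∈ mm) → ρ b u = u) → ∀ u ∈ pp, ρ b u = -u := by
    intro b hb hcom htriv
    have h1 := hkey b hb hcom htriv
    have h3 := htab' b hb
    have h4 : finrank F ↥(pp ⊓ es (ρ b) 1) = 0 := by omega
    have hbA : ∀ v : V, ρ b (A v) = A (ρ b v) := by
      intro v
      rw [hA, ← Module.End.mul_apply, ← map_mul, hcom.1, map_mul, Module.End.mul_apply]
    have hbB : ∀ v : V, ρ b (B v) = B (ρ b v) := by
      intro v
      rw [hB, ← Module.End.mul_apply, ← map_mul, hcom.2, map_mul, Module.End.mul_apply]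
    have h5 := split h2 pp (ρ b) (by
      rintro v ⟨⟨h1, h3⟩, h4⟩
      rw [SetLike.mem_coe, mem_one] at h3
      rw [SetLike.mem_coe, mem_one] at h4
      refine ⟨⟨hinW b hb v h1, ?_⟩, ?_⟩
      · rw [SetLike.mem_coe, mem_one, ← hbA, h3]
      · rw [SetLike.mem_coe, mem_one, ← hbB, h4]) (fun u hu => hsq b hb u hu.1.1)
    rw [h4, zero_add] at h5
    have h6' : pp ⊓ es (ρ b) (-1) = pp := Submodule.eq_of_le_of_finrank_eq inf_le_left h5
    intro u hu
    rw [← h6'] at hu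
    exact mem_neg.1 hu.2
  obtain ⟨k1, k2⟩ := hcl b₁ hc1
  obtain ⟨k1', k2'⟩ := hcl b₂ hc2
  have p1 := hpb b₁ hb1 k1 k2
  have p2 := hpb b₂ hb2 k1' k2'
  have k12 : (b₁ * b₂) * a₁ = a₁ * (b₁ * b₂) ∧ (b₁ * b₂) * a₂ = a₂ * (b₁ * b₂) := by
    constructor
    · rw [mul_assoc, k1'.1, ← mul_assoc, k1.1, mul_assoc]
    · rw [mul_assoc, k1'.2, ← mul_assoc, k1.2, mul_assoc]
  have k3 : ∀ u : V, (u ∈ pm ∨ u ∈ mp ∨ u ∈ mm) → ρ (b₁ * b₂) u = u := by
    intro u hu
    rw [map_mul, Module.End.mul_apply, k2' u hu, k2 u hu]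
  have p3 := hkey (b₁ * b₂) hb3 k12 k3
  have p4 : pp ⊓ es (ρ (b₁ * b₂)) 1 = pp := by
    rw [inf_eq_left]
    intro u hu
    rw [mem_one, map_mul, Module.End.mul_apply, p2 u hu, map_neg, p1 u hu, neg_neg]
  rw [p4] at p3
  have p5 := htab' _ hb3
  omega

end quat

end Cfsg.Agent.H52.F4Odd
end

-- part: H52/F4Odd/JF
section
/-!
# S3938, row `F₄(q)`, `q` odd (helper52): the facts on the 27-dimensional module used in the uniqueness
-/

set_option autoImplicit false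

namespace Cfsg.Agent.H52.F4Odd

open Cfsg Cfsg.Lie Module
open Cfsg.Agent.ChevalleyStructure Cfsg.Agent.ChevalleyStructure.Elts
open Cfsg.Agent.ChevalleyStructure.E6Min.Tables Cfsg.Agent.ChevalleyStructure.E6Min.Basic
open Cfsg.Agent.GpExc.Field (emb)
open Cfsg.Agent.H952.F4

universe u

/-- the facts on the module -/
structure JF {F V G : Type*} [Field F] [AddCommGroup V] [Module F V] [Group G] (r : ℕ) (σ : Representation F G V) :
    Prop where
  three : ∀ s : G, s ≠ 1 → s ^ r = 1 → ev (σ s) 1 = 3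
  two : ∀ x : G, x ≠ 1 → x * x = 1 → ev (σ x) 1 = 15 ∨ ev (σ x) 1 = 11
  four : ∀ x : G, x * x ≠ 1 → x ^ 4 = 1 → ev (σ (x * x)) 1 = 15 →
    ev (σ x) 1 = 7 ∨ ev (σ x) 1 = 9 ∨ ev (σ x) 1 = 15
  inv : ∀ s j : G, s ≠ 1 → s ^ r = 1 → j * j = 1 → j * s * j⁻¹ = s⁻¹ →
    12 ≤ ev (σ j) 1 ∧ (ev (σ j) 1 = 15 → es (σ s) 1 ≤ es (σ j) 1)
  quad : ∀ s g : G, s ≠ 1 → s ^ r = 1 → g ^ 4 = 1 → ∀ a : ℕ, g * s * g⁻¹ = s ^ a → orderOf (a : ZMod r) = 4 →
    ev (σ g) 1 ≤ 9

theorem JF.comp {F V G H : Type*} [Field F] [AddCommGroup V] [Module F V] [Group G] [Group H] {r : ℕ}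
    {σ : Representation F G V} (h : JF r σ) (φ : H →* G) (hφ : Function.Injective φ) :
    JF r (σ.comp φ : Representation F H V) := by
  have ne : ∀ {x : H}, x ≠ 1 → φ x ≠ 1 := fun hx h' => hx (hφ (by rw [h', map_one]))
  have e : ∀ x : H, (σ.comp φ : Representation F H V) x = σ (φ x) := fun _ => rfl
  refine ⟨?_, ?_, ?_, ?_, ?_⟩
  · intro s hs hsr
    rw [e]
    exact h.three _ (ne hs) (by rw [← map_pow, hsr, map_one])
  · intro x hx hxx
    rw [e]
    exact h.two _ (ne hx) (by rw [← map_mul, hxx, map_one])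
  · intro x hx hx4 h15
    rw [e, map_mul] at h15
    rw [e]
    exact h.four _ (by rw [← map_mul]; exact ne hx) (by rw [← map_pow, hx4, map_one]) h15
  · intro s j hs hsr hj hjs
    rw [e, e]
    exact h.inv _ _ (ne hs) (by rw [← map_pow, hsr, map_one]) (by rw [← map_mul, hj, map_one])
      (by rw [← map_inv, ← map_inv, ← map_mul, ← map_mul, hjs])
  · intro s g hs hsr hg a ha h4
    rw [e]
    exact h.quad _ _ (ne hs) (by rw [← map_pow, hsr, map_one]) (by rw [← map_pow, hg, map_one]) a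
      (by rw [← map_inv, ← map_mul, ← map_mul, ha, map_pow]) h4

section main

variable {F : Type u} [Field F] [Finite F] {ρ : ↥(chevF4.group F) →* GL I27 F}

theorem finrank_J (K : Type u) [Field K] : finrank K (I27 → K) = 27 := by
  rw [Module.finrank_fintype_fun_eq_card]
  rfl

omit [Finite F] in
theorem two_ne {p : ℕ} [Fact p.Prime] [CharP F p] (hp2 : p ≠ 2) : (2 : F) ≠ 0 := by
  intro h
  have h1 : ((2 : ℕ) : F) = 0 := by exact_mod_cast h
  rw [CharP.cast_eq_zero_iff F p] at h1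
  exact hp2 ((Nat.prime_dvd_prime_iff_eq Fact.out Nat.prime_two).1 h1)

/-- **The facts hold.** -/
theorem jf (p : ℕ) [Fact p.Prime] [CharP F p] (hp2 : p ≠ 2) (hρ : IsJ ρ) {r : ℕ} (hr : r.Prime)
    (h12 : orderOf ((Nat.card F : ℕ) : ZMod r) = 12) : JF r (JK ρ) := by
  classical
  have hrf : Fact r.Prime := ⟨hr⟩
  have := Fintype.ofFinite F
  have T := Tor.tab_finite p hρ
  have hr2 : r ≠ 2 := by
    rintro rfl
    have h1 := orderOf_dvd_card (x := (ZMod.unitOfCoprime (Nat.card F) (by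
      rw [Nat.coprime_comm, Nat.Prime.coprime_iff_not_dvd Nat.prime_two]
      intro h
      rw [(ZMod.natCast_eq_zero_iff _ _).2 h, orderOf_zero] at h12
      omega) : (ZMod 2)ˣ))
    rw [← orderOf_units, ZMod.coe_unitOfCoprime, h12, ZMod.card_units_eq_totient] at h1
    have h2 : Nat.totient 2 = 1 := rfl
    rw [h2] at h1
    omega
  set K := AlgebraicClosure F with hKdef
  have hch : CharP K p := charP_of_injective_algebraMap (algebraMap F K).injective p
  set f : F →+* K := algebraMap F K with hf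
  obtain ⟨ρ', hρ'⟩ := JMod.exists_isJ K
  have inj : Function.Injective (emb hF4 f) := Cfsg.Agent.GpExc.Field.emb_injective hF4 f
  have eJ1 : ∀ x, ev (JK ρ' (emb hF4 f x)) 1 = ev (JK ρ x) 1 := fun x => by
    rw [← Chg.ev_J f hρ hρ', map_one]
  have hrK : ((r : ℕ) : K) ≠ 0 := by
    intro h
    rw [CharP.cast_eq_zero_iff K p, Nat.prime_dvd_prime_iff_eq Fact.out hr] at h
    obtain ⟨n, _, hn⟩ := FiniteField.card F p
    rw [← Nat.card_eq_fintype_card] at hn
    rw [← h, hn, Nat.cast_pow, CharP.cast_eq_zero, zero_pow n.pos.ne', orderOf_zero] at h12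
    omega
  have three : ∀ s : ↥(chevF4.group F), s ≠ 1 → s ^ r = 1 → ev (JK ρ s) 1 = 3 :=
    fun s hs hsr => ev_three p hρ hr h12 hs hsr
  refine ⟨three, ?_, ?_, ?_, ?_⟩
  · intro x hx hxx
    rcases T.two hp2 x hx hxx with h | h
    · exact Or.inl h.1
    · exact Or.inr h.1
  · intro x hx hx4 h15
    rcases T.four hp2 x hx hx4 with h | h | h | h | h
    · rw [h.1] at h15; omega
    · rw [h.1] at h15; omega
    · exact Or.inl h.2.2.1
    · exact Or.inr (Or.inl h.2.2.1)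
    · exact Or.inr (Or.inr h.2.2.1)
  · intro s j hs hsr hj hjs
    have hcast : (((r - 1 : ℕ) : ℕ) : ZMod r) = -1 := by
      rw [Nat.cast_sub hr.one_lt.le, ZMod.natCast_self, Nat.cast_one, zero_sub]
    have hord : orderOf (((r - 1 : ℕ) : ℕ) : ZMod r) = 2 := by
      rw [hcast, orderOf_neg_one, if_neg]
      rw [ZMod.ringChar_zmod_n]
      exact hr2
    have hspow : s ^ (r - 1) = s⁻¹ := by
      rw [eq_inv_iff_mul_eq_one, ← pow_succ, Nat.sub_add_cancel hr.one_lt.le, hsr]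
    have h1 := Eig.frob ((JK ρ').comp (emb hF4 f) : Representation K ↥(chevF4.group F) (I27 → K)) hr hrK
      (z := s) (y := j) (a := r - 1) (k := 2) hsr (by rw [hjs, hspow]) hord (by norm_num) (by rw [pow_two, hj])
      (μ := 1) (one_pow _)
    change 2 * ev (JK ρ' (emb hF4 f j)) 1 + ev (JK ρ' (emb hF4 f s)) 1 =
      2 * finrank K ↥(es (JK ρ' (emb hF4 f s)) 1 ⊓ es (JK ρ' (emb hF4 f j)) 1) + finrank K (I27 → K) at h1
    simp only [eJ1, eJ1, three s hs hsr, finrank_J] at h1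
    refine ⟨by omega, ?_⟩
    intro h15 v hv
    have h3 : finrank K ↥(es (JK ρ' (emb hF4 f s)) 1 ⊓ es (JK ρ' (emb hF4 f j)) 1) =
        finrank K ↥(es (JK ρ' (emb hF4 f s)) 1) := by
      have h4 : finrank K ↥(es (JK ρ' (emb hF4 f s)) 1) = 3 := by
        rw [← three s hs hsr, ← eJ1]
        rfl
      omega
    have h4 := Submodule.eq_of_le_of_finrank_eq inf_le_left h3
    have hm : ∀ (g : ↥(chevF4.group F)) (w : I27 → F), JK ρ' (emb hF4 f g) (f ∘ w) = f ∘ (JK ρ g w) := by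
      intro g w
      rw [FixV.JK_apply, FixV.JK_apply, H815.F4Chg.J_map f hρ hρ' g]
      ext i
      simp [Matrix.mulVec, dotProduct, map_sum]
    have h5 : f ∘ v ∈ es (JK ρ' (emb hF4 f s)) 1 := by
      rw [mem_one, hm, mem_one.1 hv]
    rw [← h4] at h5
    have h6 := mem_one.1 h5.2
    rw [hm] at h6
    rw [mem_one]
    funext i
    exact f.injective (congrFun h6 i)
  · intro s g hs hsr hg a ha h4
    have h1 := Eig.frob ((JK ρ').comp (emb hF4 f) : Representation K ↥(chevF4.group F) (I27 → K)) hr hrK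
      (z := s) (y := g) (a := a) (k := 4) hsr ha h4 (by norm_num) hg (μ := 1) (one_pow _)
    change 4 * ev (JK ρ' (emb hF4 f g)) 1 + ev (JK ρ' (emb hF4 f s)) 1 =
      4 * finrank K ↥(es (JK ρ' (emb hF4 f s)) 1 ⊓ es (JK ρ' (emb hF4 f g)) 1) + finrank K (I27 → K) at h1
    simp only [eJ1, eJ1, three s hs hsr, finrank_J] at h1
    have h3 : finrank K ↥(es (JK ρ' (emb hF4 f s)) 1 ⊓ es (JK ρ' (emb hF4 f g)) 1) ≤ 3 := by
      have h4 : finrank K ↥(es (JK ρ' (emb hF4 f s)) 1) = 3 := by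
        rw [← three s hs hsr, ← eJ1]
        rfl
      rw [← h4]
      exact Submodule.finrank_mono inf_le_left
    omega


omit [Finite F] in
theorem fixed (hρ : IsJ ρ) (U : Submodule F (I27 → F)) (hU : ∀ g : ↥(chevF4.group F), ∀ v ∈ U, JK ρ g v = v) :
    finrank F ↥U ≤ 1 := by
  have h1 : U ≤ Submodule.span F {u0 F} := by
    intro v hv
    have h2 := FixV.eq_smul_u0 v fun r hr j _ => by
      have h3 := hU (FixL.xg ⟨r, hr⟩ 1) v hv
      rw [FixV.JK_xg hρ] at h3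
      rw [h3]
    rw [h2]
    exact Submodule.smul_mem _ _ (Submodule.mem_span_singleton_self _)
  refine (Submodule.finrank_mono h1).trans ?_
  exact (finrank_span_le_card _).trans (by simp)

end main

end Cfsg.Agent.H52.F4Odd
end

-- part: H52/F4Odd/Uniq
section
/-!
# S3938, row `F₄(q)`, `q` odd (helper52): a simple overgroup `³D₄(q)` of the torus element acts trivially on the fixed
space of the elements of order `r`
-/

set_option autoImplicit false

namespace Cfsg.Agent.H52.F4Odd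

open Module Cfsg.Agent.H952.F4

/-- the quaternion configuration in `³D₄(q)`: `j` inverts `x`, `a₁, a₂` and `b₁, b₂` generate commuting quaternion
groups with centre `⟨j⟩`, `b₁, b₂` lie in the group generated by the elements of order `l` commuting with `a₁, a₂`
(`l` prime, `q` of order 6 modulo `l`) -/
structure Quat {G : Type*} [Group G] (q : ℕ) (x : G) : Prop where
  ex : ∃ j a₁ a₂ b₁ b₂ : G, j * x * j⁻¹ = x⁻¹ ∧ j * j = 1 ∧ j ≠ 1 ∧ a₁ * a₁ = j ∧ a₂ * a₂ = j ∧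
    (a₁ * a₂) * (a₁ * a₂) = j ∧ b₁ * b₁ = j ∧ b₂ * b₂ = j ∧ (b₁ * b₂) * (b₁ * b₂) = j ∧
    ∀ l : ℕ, l.Prime → orderOf (q : ZMod l) = 6 →
      b₁ ∈ Subgroup.closure {y : G | y * a₁ = a₁ * y ∧ y * a₂ = a₂ * y ∧ y ^ l = 1} ∧
      b₂ ∈ Subgroup.closure {y : G | y * a₁ = a₁ * y ∧ y * a₂ = a₂ * y ∧ y ^ l = 1}

section stab

variable {F V G : Type*} [Field F] [AddCommGroup V] [Module F V] [Group G] (σ : Representation F G V)

theorem inv_apply (g : G) (v : V) : σ g⁻¹ (σ g v) = v := by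
  rw [← Module.End.mul_apply, ← map_mul, inv_mul_cancel, map_one, Module.End.one_apply]

theorem apply_inv (g : G) (v : V) : σ g (σ g⁻¹ v) = v := by
  rw [← Module.End.mul_apply, ← map_mul, mul_inv_cancel, map_one, Module.End.one_apply]

/-- the stabiliser of a subspace -/
def Stb (U : Submodule F V) : Subgroup G where
  carrier := {g | (∀ v ∈ U, σ g v ∈ U) ∧ ∀ v ∈ U, σ g⁻¹ v ∈ U}
  mul_mem' := by
    rintro a b ⟨h1, h2⟩ ⟨h3, h4⟩
    refine ⟨fun v hv => ?_, fun v hv => ?_⟩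
    · rw [map_mul, Module.End.mul_apply]
      exact h1 _ (h3 v hv)
    · rw [mul_inv_rev, map_mul, Module.End.mul_apply]
      exact h4 _ (h2 v hv)
  one_mem' := by
    refine ⟨fun v hv => ?_, fun v hv => ?_⟩
    · rw [map_one]; exact hv
    · rw [inv_one, map_one]; exact hv
  inv_mem' := by
    rintro a ⟨h1, h2⟩
    refine ⟨h2, fun v hv => ?_⟩
    rw [inv_inv]
    exact h1 v hv

/-- the pointwise stabiliser of a subspace -/
def Ptw (U : Submodule F V) : Subgroup G where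
  carrier := {g | ∀ v ∈ U, σ g v = v}
  mul_mem' := by
    intro a b h1 h3 v hv
    rw [map_mul, Module.End.mul_apply, h3 v hv, h1 v hv]
  one_mem' := by
    intro v hv
    rw [map_one]; rfl
  inv_mem' := by
    intro a h1 v hv
    have := inv_apply σ a v
    rwa [h1 v hv] at this

theorem Ptw_le_Stb (U : Submodule F V) : Ptw σ U ≤ Stb σ U := by
  intro g hg
  have hg' := (Ptw σ U).inv_mem hg
  refine ⟨fun v hv => ?_, fun v hv => ?_⟩
  · rw [hg v hv]; exact hv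
  · rw [hg' v hv]; exact hv

/-- if the whole (simple) group stabilises the subspace and a nontrivial element fixes it pointwise, then it is fixed
pointwise -/
theorem fixed_of_stab [IsSimpleGroup G] {U : Submodule F V} (h : Stb σ U = ⊤) {s : G} (hs1 : s ≠ 1)
    (hs : s ∈ Ptw σ U) : Ptw σ U = ⊤ := by
  have hn : (Ptw σ U).Normal := by
    refine ⟨fun n hn g => ?_⟩
    intro v hv
    have hg : g ∈ Stb σ U := by rw [h]; trivial
    rw [map_mul, map_mul, Module.End.mul_apply, Module.End.mul_apply, hn _ (hg.2 v hv), apply_inv]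
  rcases hn.eq_bot_or_eq_top with h1 | h1
  · rw [h1, Subgroup.mem_bot] at hs
    exact absurd hs hs1
  · exact h1

/-- an element normalising `⟨s⟩` stabilises the fixed space of `s` -/
theorem mem_Stb_of_norm {s g : G} (h1 : g⁻¹ * s * g ∈ Subgroup.zpowers s) (h2 : g * s * g⁻¹ ∈ Subgroup.zpowers s) :
    g ∈ Stb σ (es (σ s) 1) := by
  have hz : ∀ z ∈ Subgroup.zpowers s, ∀ v ∈ es (σ s) 1, σ z v = v := by
    intro z hz
    have : Subgroup.zpowers s ≤ Ptw σ (es (σ s) 1) := by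
      rw [Subgroup.zpowers_le]
      intro v hv
      exact mem_one.1 hv
    exact this hz
  refine ⟨fun v hv => ?_, fun v hv => ?_⟩
  · rw [mem_one]
    have e : s * g = g * (g⁻¹ * s * g) := by group
    rw [← Module.End.mul_apply, ← map_mul, e, map_mul, Module.End.mul_apply, hz _ h1 v hv]
  · rw [mem_one]
    have e : s * g⁻¹ = g⁻¹ * (g * s * g⁻¹) := by group
    rw [← Module.End.mul_apply, ← map_mul, e, map_mul, Module.End.mul_apply, hz _ h2 v hv]

end stab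

/-- conjugation and powers -/
theorem conj_zpowers {G : Type*} [Group G] {x g s : G} (hx : s ∈ Subgroup.zpowers x)
    (hg : g * x * g⁻¹ ∈ Subgroup.zpowers x) : g * s * g⁻¹ ∈ Subgroup.zpowers s := by
  obtain ⟨k, rfl⟩ := hx
  obtain ⟨m, hm⟩ := hg
  refine ⟨m, ?_⟩
  simp only at hm ⊢
  rw [← zpow_mul, mul_comm, zpow_mul, hm, conj_zpow]

section main

variable {F V G : Type*} [Field F] [Finite F] [AddCommGroup V] [Module F V] [FiniteDimensional F V] [Group G]
  [Finite G] [IsSimpleGroup G] {σ : Representation F G V}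

/-- **The main argument.** -/
theorem fix_of_quat (h2 : (2 : F) ≠ 0) {r : ℕ} (hr : r.Prime) (hr2 : r ≠ 2) (hσ : JF r σ) {l : ℕ} (hl : l.Prime)
    (h6 : orderOf ((Nat.card F : ℕ) : ZMod l) = 6) {x s : G} (hs1 : s ≠ 1) (hsr : s ^ r = 1)
    (hsx : s ∈ Subgroup.zpowers x)
    (hover : ∀ H : Subgroup G, x ∈ H → H ≠ ⊤ → H ≤ Subgroup.normalizer (Subgroup.zpowers x : Set G))
    (hq : Quat (Nat.card F) x) : Ptw σ (es (σ s) 1) = ⊤ := by
  have hrf : Fact r.Prime := ⟨hr⟩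
  obtain ⟨j, a₁, a₂, b₁, b₂, hjx, hj, hj1, ha1, ha2, ha3, hb1, hb2, hb3, hcl⟩ := hq.ex
  have hsord : orderOf s = r := orderOf_eq_prime hsr hs1
  have hjs : j * s * j⁻¹ = s⁻¹ := by
    obtain ⟨k, rfl⟩ := hsx
    simp only
    rw [← conj_zpow, hjx, inv_zpow]
  obtain ⟨h12, hle⟩ := hσ.inv s j hs1 hsr hj hjs
  have h15 : ev (σ j) 1 = 15 := by
    rcases hσ.two j hj1 hj with h | h
    · exact h
    · omega
  have hK := hle h15
  obtain ⟨hc1, hc2⟩ := hcl l hl h6
  have hg4' : ∀ g : G, g * g = j → g ^ 4 = 1 := by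
    intro g hg
    rw [show (4 : ℕ) = 2 * 2 from rfl, pow_mul, pow_two g, hg, pow_two, hj]
  obtain ⟨g, hg, hg15⟩ := exists_fifteen σ h2 ha1 ha2 ha3 hb1 hb2 hb3 hl h6 hc1 hc2 h15 (fun g hg =>
    hσ.four g (by rw [hg]; exact hj1) (hg4' g hg) (by rw [hg]; exact h15))
  have hgle : es (σ g) 1 ≤ es (σ j) 1 := by
    intro w hw
    rw [mem_one, ← hg, map_mul, Module.End.mul_apply, mem_one.1 hw, mem_one.1 hw]
  have hgeq : es (σ g) 1 = es (σ j) 1 := Submodule.eq_of_le_of_finrank_eq hgle (by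
    change ev (σ g) 1 = ev (σ j) 1
    rw [hg15, h15])
  have hgK : g ∈ Ptw σ (es (σ s) 1) := by
    intro v hv
    have := hK hv
    rw [← hgeq] at this
    exact mem_one.1 this
  have hgN : g * x * g⁻¹ ∉ Subgroup.zpowers x := by
    intro hgx
    have h1 := conj_zpowers hsx hgx
    have hfin : IsOfFinOrder s := isOfFinOrder_of_finite s
    rw [← hfin.mem_powers_iff_mem_zpowers] at h1
    obtain ⟨a, ha⟩ := h1
    simp only at ha
    have h3 : s ^ (a * a) = s⁻¹ := by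
      rw [pow_mul, ha, conj_pow, ha]
      have : g * (g * s * g⁻¹) * g⁻¹ = (g * g) * s * (g * g)⁻¹ := by group
      rw [this, hg, hjs]
    have h4 : ((a : ZMod r)) ^ 2 = -1 := by
      rw [eq_inv_iff_mul_eq_one, ← pow_succ, ← orderOf_dvd_iff_pow_eq_one, hsord,
        ← ZMod.natCast_eq_zero_iff] at h3
      push_cast at h3
      rw [pow_two]
      exact eq_neg_of_add_eq_zero_left h3
    have h5 : orderOf (a : ZMod r) = 4 := by
      have h7 : (a : ZMod r) ^ 2 ≠ 1 := by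
        rw [h4]
        intro h
        have h8 : ((2 : ℕ) : ZMod r) = 0 := by
          have : (2 : ZMod r) = 1 - (-1) := by ring
          push_cast
          rw [this, h, sub_self]
        rw [ZMod.natCast_eq_zero_iff] at h8
        exact hr2 ((Nat.prime_dvd_prime_iff_eq hr Nat.prime_two).1 h8)
      have h9 : (a : ZMod r) ^ (2 ^ (1 + 1)) = 1 := by
        have : (a : ZMod r) ^ (2 ^ (1 + 1)) = ((a : ZMod r) ^ 2) ^ 2 := by ring
        rw [this, h4]
        ring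
      have h10 := orderOf_eq_prime_pow (p := 2) (n := 1) (x := (a : ZMod r)) (by rwa [pow_one]) h9
      rw [h10]
      norm_num
    have h8 := hσ.quad s g hs1 hsr (hg4' g hg) a ha.symm h5
    omega
  have htop : Subgroup.closure ({x, g} : Set G) = ⊤ := by
    by_contra hne
    have h1 := hover _ (Subgroup.subset_closure (Set.mem_insert _ _)) hne
    have h3 := h1 (Subgroup.subset_closure (Set.mem_insert_of_mem _ rfl))
    rw [Subgroup.mem_normalizer_iff] at h3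
    exact hgN ((h3 x).1 (Subgroup.mem_zpowers x))
  refine fixed_of_stab σ ?_ hs1 (fun v hv => mem_one.1 hv)
  rw [eq_top_iff, ← htop, Subgroup.closure_le]
  rintro y (rfl | rfl)
  · refine mem_Stb_of_norm σ ?_ ?_
    · obtain ⟨k, rfl⟩ := hsx
      simp only
      have : y⁻¹ * y ^ k * y = y ^ k := by group
      rw [this]
      exact Subgroup.mem_zpowers _
    · obtain ⟨k, rfl⟩ := hsx
      simp only
      have : y * y ^ k * y⁻¹ = y ^ k := by group
      rw [this]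
      exact Subgroup.mem_zpowers _
  · exact Ptw_le_Stb σ _ hgK

end main

end Cfsg.Agent.H52.F4Odd
end

-- part: H824/Wei/Name
section
/-!
# Overgroups of the torus of class 12 of `F₄(q)`, `q > 2`: the simple group and its name (helper824)
-/

set_option autoImplicit false
set_option exponentiation.threshold 700

namespace Cfsg.Agent.H824.Wei

open Cfsg Cfsg.Agent.OrdDiv Cfsg.Agent.H436 Cfsg.Agent.H902 Cfsg.Agent.H902.Names Cfsg.Agent.H915.GN
  Cfsg.Agent.H290.ElReg Cfsg.Agent.H290.ElTab Cfsg.Agent.H290.ElCross Cfsg.Agent.H264.FKS Cfsg.Agent.H56.Exc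
  Cfsg.Agent.H325.Loc Cfsg.Agent.H563.KG

/-- **The simple normal subgroup.** -/
theorem core (hE : CycFixSolv.{0}) {M E n p : ℕ} (hM : 1 < M) (hE0 : 0 < E) (hEM : E < M + 1) (hp : p.Prime)
    {F : Type} [Field F] [CharP F p]
    {T : Type} [Group T] [Finite T] (hrep : Fth n F T) (hbig : ∀ r, r.Prime → r ∣ M → Big T r M E)
    {r₀ : ℕ} (hr₀ : r₀.Prime) (hr₀M : r₀ ∣ M) (hpiso : PIso p r₀ T) {B : Subgroup T} {x : T} (hx : orderOf x = M)
    (hxB : x ∈ B)
    (hgood : ∀ t : ℕ, t.Prime → t ≠ p → ¬ t ∣ M → t ∣ Nat.card B → _root_.Cfsg.Agent.H563.KG.Good B n t) :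
    (Subgroup.zpowers (⟨x, hxB⟩ : B)).Normal ∨
    ∃ (S : Subgroup B) (_ : S.Normal) (_ : IsSimpleGroup S), ¬ IsMulCommutative S ∧
      Subgroup.centralizer (S : Set B) = ⊥ ∧ (⟨x, hxB⟩ : B) ∈ S ∧
      (∀ r, r.Prime → r ∣ M → Big S r M E) ∧ ∃ n k, S.index * n ∣ E ∧ Nat.card S = n * M * (1 + k * M) := by
  have := Fact.mk hp
  have hxo : orderOf (⟨x, hxB⟩ : B) = M := by rw [Subgroup.orderOf_mk, hx]
  have hMB : M ∣ Nat.card B := hxo ▸ orderOf_dvd_natCard (⟨x, hxB⟩ : B)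
  obtain ⟨τ, hτ⟩ := hrep.sub B.subtype B.subtype_injective
  have hr₀B : r₀ ∣ Nat.card B := hr₀M.trans hMB
  have hred : Red ↥B (fun r => r.Prime ∧ r ∣ M) := by
    refine red_of hE hτ (fun A hA hAp => pcore_of_piso (hpiso.sub B) hr₀B A hA hAp)
      (r := r₀) ⟨hr₀, hr₀M⟩ hr₀ hr₀B
      (fun x hx => ((hbig r₀ hr₀ hr₀M).subgroup B).cyc x hx) fun t ht htp htn htB => ?_
    rw [Fintype.card_fin]
    exact hgood t ht htp (fun h => htn ⟨ht, h⟩) htB
  rcases Cfsg.Agent.H363.Wei.one_torus hE hM (fun r h1 h2 => (hbig r h1 h2).subgroup B)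
    (Nat.mul_pos hE0 (by omega)) (by rw [mul_comm]; exact Nat.mul_lt_mul_of_pos_left hEM (by omega)) hxo hred with h | ⟨S, hSn, hSs, hSna, hSc, hxS, hSb, -⟩
  · exact Or.inl h
  · have hSs' : IsSimpleGroup S := hSs
    exact Or.inr ⟨S, hSn, hSs, hSna, hSc, hxS, fun r h1 h2 => (hSb r h1 h2).1,
      Cfsg.Agent.H351.CovF4.count hM (fun r h1 h2 => (hbig r h1 h2).subgroup B) hxo S hxS⟩

/-! ### tables -/

/-- the small fields, `q > 2` -/
def sm3 : List (ℕ × ℕ) := [(3, 3), (2, 4), (5, 5), (7, 7)]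

/-- the test -/
def svR3 (n : ℕ) (Y : Art.Sh) (cls : List ℕ) : Bool := (reg n).all fun x => sm3.all fun y =>
  y.1 == x.2.1 || !(tq Y cls (OL x.1 (x.2.1 ^ x.2.2)) (Art.dd x.1 (x.2.1 ^ x.2.2)) y.2)

/-- the test, sporadic groups -/
def svS3 (Y : Art.Sh) (cls : List ℕ) : Bool :=
  Cfsg.Agent.OrdDiv.spor.all fun x => sm3.all fun y => !(tq Y cls x.2 1 y.2)

theorem svR3_F4 : svR3 52 .F4 [12] = true := by decide +kernel
theorem svS3_F4 : svS3 .F4 [12] = true := by decide +kernel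


theorem mem_sm3 {p f : ℕ} (hp : p.Prime) (hf : 1 ≤ f) (h2 : 2 < p ^ f) (h : p ^ f ≤ 7) : (p, p ^ f) ∈ sm3 := by
  have h1 := mem_sm hp hf h
  simp only [sm, List.mem_cons, Prod.mk.injEq, List.not_mem_nil, or_false] at h1
  simp only [sm3, List.mem_cons, Prod.mk.injEq, List.not_mem_nil, or_false]
  omega

variable {n : ℕ} {Y : Art.Sh} {cls : List ℕ} {e₀ p f : ℕ}

/-- **Cross characteristic.** -/
theorem no_cross3 (hn : n ≤ 248) (hb : bndR n e₀ = true) (hs : svR3 n Y cls = true) (he₀ : Cls e₀) (hmem : e₀ ∈ cls)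
    (hle : ∀ q, ncl e₀ q ≤ 2701 → q ≤ 7) {X : Art.Sh} {l a N : ℕ}
    (hR : Art.Real X l a N) (hlb : lb X (l ^ a) ≤ n) (hp : p.Prime) (hf : 1 ≤ f) (hq3 : 2 < p ^ f) (hpl : p ≠ l)
    (hcls : ∀ e ∈ cls, ncl e (p ^ f) ∣ N) (hd : N ∣ OL Y (p ^ f)) : False := by
  obtain ⟨hl, ha, hokX, heq⟩ := hR
  have hq : 2 ≤ p ^ f := hp.two_le.trans (Nat.le_self_pow (by omega) p)
  have hreg := mem_reg hn hl ha hokX hlb
  have hs' : smooth (NA X l a) = true :=
    List.all_eq_true.1 smooth_reg (X, (l, a)) (mem_reg le_rfl hl ha hokX (hlb.trans hn))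
  have hsS : smooth (NS X l a) = true := by
    have h1 : NS X l a ∣ NA X l a := Dvd.intro_left _ rfl
    have h2 : NA X l a ∣ prs.prod ^ 100 := Nat.dvd_of_mod_eq_zero (by simpa [smooth] using hs')
    simpa [smooth] using Nat.mod_eq_zero_of_dvd (h1.trans h2)
  have hM : OL X (l ^ a) = Art.dd X (l ^ a) * N := by unfold OL; rw [numL_eq]; exact heq.symm
  have hNM : N ∣ OL X (l ^ a) := Dvd.intro_left _ hM.symm
  have hNS : ∀ r, r.Prime → r ∣ N → r ∣ NS X l a := by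
    intro r hr h
    unfold NS
    have h1 : r ∣ (l ^ a) ^ Art.NN X * numL X (l ^ a) := h.trans hNM
    rcases hr.dvd_mul.1 h1 with h2 | h2
    · exact (hr.dvd_of_dvd_pow (hr.dvd_of_dvd_pow h2)).mul_right _
    · exact h2.mul_left _
  have hb' := List.all_eq_true.1 hb (X, (l, a)) hreg
  simp only [Bool.and_eq_true, Nat.ble_eq, Nat.blt_eq] at hb'
  have hM0 : OL X (l ^ a) ≠ 0 := by
    intro h0
    have h1 := List.all_eq_true.1 hs (X, (l, a)) hreg
    -- `M = 0` is impossible: `De 0 = ...`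
    have h2 : ncl e₀ (p ^ f) ∣ N := hcls e₀ hmem
    have h3 : l ^ a ≠ 0 := pow_ne_zero _ hl.ne_zero
    have h4 : NS X l a ≠ 0 := by
      intro h5
      have h6 : NS X l a ∣ prs.prod ^ 100 := Nat.dvd_of_mod_eq_zero (by simpa [smooth] using hsS)
      rw [h5] at h6
      have h7 := Nat.eq_zero_of_zero_dvd h6
      have h8 : prs.prod ≠ 0 := by decide +kernel
      exact pow_ne_zero 100 h8 h7
    apply h4
    unfold OL at h0
    rcases Nat.mul_eq_zero.1 h0 with h5 | h5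
    · exact absurd h5 (pow_ne_zero _ h3)
    · unfold NS
      rw [h5, mul_zero]
  have h1 : ncl e₀ (p ^ f) ∣ De (pd (NS X l a)) (OL X (l ^ a)) e₀ := by
    refine dvd_De hM0 hb'.2 ((hcls e₀ hmem).trans hNM) fun r hr hrd => ?_
    have hprim := prim_of_dvd he₀ (by omega) hr hrd
    exact ⟨mem_pd hsS hr (hNS r hr (hrd.trans (hcls e₀ hmem))), mod_of_prim hq (by
      have := he₀.ge
      omega) hprim⟩
  have h2 : ncl e₀ (p ^ f) ≤ 2701 := by
    have h3 : De (pd (NS X l a)) (OL X (l ^ a)) e₀ ≠ 0 := by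
      unfold De
      intro h4
      rw [List.prod_eq_zero_iff, List.mem_map] at h4
      obtain ⟨r, -, h5⟩ := h4
      exact hM0 (Nat.eq_zero_of_gcd_eq_zero_left h5)
    exact (Nat.le_of_dvd (Nat.pos_of_ne_zero h3) h1).trans hb'.1
  have h3 := mem_sm3 hp hf hq3 (hle _ h2)
  have h4 := List.all_eq_true.1 (List.all_eq_true.1 hs (X, (l, a)) hreg) _ h3
  rw [tq_of (fun e he => (hcls e he).trans hNM) hM hd] at h4
  simp at h4
  exact hpl h4

/-- **Sporadic groups.** -/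
theorem no_spor3 (hb : bndS e₀ = true) (hs : svS3 Y cls = true) (he₀ : Cls e₀) (hmem : e₀ ∈ cls)
    (hle : ∀ q, ncl e₀ q ≤ 2701 → q ≤ 7) {x : Cfsg.Agent.OrdDiv.Grp × ℕ} (hx : x ∈ Cfsg.Agent.OrdDiv.spor)
    (hp : p.Prime) (hf : 1 ≤ f) (hq3 : 2 < p ^ f)
    (hcls : ∀ e ∈ cls, ncl e (p ^ f) ∣ x.2) (hd : x.2 ∣ OL Y (p ^ f)) : False := by
  have hq : 2 ≤ p ^ f := hp.two_le.trans (Nat.le_self_pow (by omega) p)
  have hs' : smooth x.2 = true := List.all_eq_true.1 smooth_spor x hx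
  have hb' := List.all_eq_true.1 hb x hx
  simp only [Bool.and_eq_true, Nat.ble_eq, Nat.blt_eq] at hb'
  have hM0 : x.2 ≠ 0 := by
    have : ∀ x ∈ Cfsg.Agent.OrdDiv.spor, x.2 ≠ 0 := by decide +kernel
    exact this x hx
  have h1 : ncl e₀ (p ^ f) ∣ De (pd x.2) x.2 e₀ := by
    refine dvd_De hM0 hb'.2 (hcls e₀ hmem) fun r hr hrd => ?_
    have hprim := prim_of_dvd he₀ (by omega) hr hrd
    exact ⟨mem_pd hs' hr (hrd.trans (hcls e₀ hmem)), mod_of_prim hq (by
      have := he₀.ge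
      omega) hprim⟩
  have h2 : ncl e₀ (p ^ f) ≤ 2701 := by
    have h3 : De (pd x.2) x.2 e₀ ≠ 0 := by
      unfold De
      intro h4
      rw [List.prod_eq_zero_iff, List.mem_map] at h4
      obtain ⟨r, -, h5⟩ := h4
      exact hM0 (Nat.eq_zero_of_gcd_eq_zero_left h5)
    exact (Nat.le_of_dvd (Nat.pos_of_ne_zero h3) h1).trans hb'.1
  have h3 := mem_sm3 hp hf hq3 (hle _ h2)
  have h4 := List.all_eq_true.1 (List.all_eq_true.1 hs x hx) _ h3
  rw [tq_of hcls (one_mul _).symm hd] at h4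
  simp at h4


/-! ### the name -/

theorem name3 (tb : OrderTable.{0}) {e n d : ℕ} {Y : Art.Sh} (hn : n ≤ 248) (hb : bndR n e = true)
    (hs : svR3 n Y [e] = true) (hbS : bndS e = true) (hsS : svS3 Y [e] = true) (he : Cls e) (he7 : 7 ≤ e)
    (hle : ∀ q, ncl e q ≤ 2701 → q ≤ 7) {p f : ℕ} (hp : p.Prime) (hf : 1 ≤ f) (hq3 : 2 < p ^ f)
    (hbd : 2 * d + 4 < ncl e (p ^ f)) (hd0 : 0 < d) {M : ℕ} {F : Type} [Field F] [CharP F p] {S : Type}
    [Group S] [Finite S] [IsSimpleGroup S] (hna : ¬ IsMulCommutative S) (hK : IsKnownSimple' S) (hrep : Fth n F S)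
    (hcls : ncl e (p ^ f) ∣ Nat.card S) (hd : Nat.card S ∣ OL Y (p ^ f))
    (hbig : ∀ r, Prim (p ^ f) e r → Big S r M d) :
    ∃ g, IsNamed g S ∧ HasChar p g := by
  have hna' : ¬ ∀ a b : S, a * b = b * a := fun h => hna ⟨⟨h⟩⟩
  have hq : 2 ≤ p ^ f := by omega
  obtain ⟨g, hgS⟩ := exists_named tb hK hna'
  rcases Cfsg.Agent.H192.Singer.cases_name hgS.cond with ⟨m, rfl⟩ | hsp | ⟨l, hl, hch⟩
  · exfalso
    obtain ⟨Φ⟩ : Nonempty (S ≃* alternatingGroup (Fin m)) := hgS.real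
    have hm : 5 ≤ m := hgS.cond
    have hnil : ∀ r, Prim (p ^ f) e r → ∀ x : S, orderOf x = r →
        Group.IsNilpotent (Subgroup.centralizer ({x} : Set S)) := by
      intro r hr x hx
      have := (hbig r hr).cyc x hx
      let _ := IsCyclic.commGroup (α := ↥(Subgroup.centralizer ({x} : Set S)))
      infer_instance
    have h1 := window hq he he7 (by omega) Φ hcls hnil
    obtain ⟨r, hr⟩ := exists_prim hq (show 3 ≤ e by omega) (by omega)
    have h2 : r ∣ Nat.card S := (dvd_ncl he (by omega) hr).trans hcls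
    have h3 := Cfsg.Agent.H290.ElRich.alt_le hr.prime (by
      have := five_le_of_cls hq he7 hr
      omega) Φ h2 (hnil r hr)
    exact Cfsg.Agent.H363.Wei.not_alt (hbig r hr) hd0 h2 (by omega) Φ
  · exfalso
    have h1 := Cfsg.Agent.H192.Singer.spor_mem hsp
    have h2 : Nat.card S = ordN g := hgS.ord
    exact no_spor3 hbS hsS he (List.mem_singleton.2 rfl) hle h1 hp hf hq3 (by
      intro e' he'
      rw [List.mem_singleton] at he'
      rw [he', ← h2]
      exact hcls) (by rw [← h2]; exact hd)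
  · by_cases hpl : p = l
    · subst hpl
      exact ⟨g, hgS, hch⟩
    · exfalso
      obtain ⟨X, f₁, h1, h2, -⟩ := exists_lie hl hgS hch
      have hlF : (l : F) ≠ 0 := by
        intro h
        exact hpl ((Nat.prime_dvd_prime_iff_eq hp hl).1 ((CharP.cast_eq_zero_iff F p l).1 h))
      have h3 := lb_le hna' hn hrep h1 hgS.real h2 hlF
      exact no_cross3 hn hb hs he (List.mem_singleton.2 rfl) hle h2 h3 hp hf hq3 hpl (by
        intro e' he'
        rw [List.mem_singleton] at he'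
        rw [he']
        exact hcls) hd

end Cfsg.Agent.H824.Wei
end

-- part: H824/Wei/CharP
section
/-!
# Own characteristic names, class 12 of `F₄(q)`, `q > 2` (helper824)
-/

set_option autoImplicit false
set_option maxHeartbeats 1000000

namespace Cfsg.Agent.H824.Wei

open Cfsg.Agent.OrdDiv Cfsg.Agent.H436 Cfsg.Agent.H915.GN Cfsg.Agent.H264.GN Cfsg.Agent.H264.FKS Cfsg.Agent.H325.Same
  Cfsg.Agent.H351.CovF4

section Z

variable {Q c : ℕ}

theorem gcd_two_odd (hQ : 2 ≤ Q) (hodd : Odd Q) : Nat.gcd 2 (Q - 1) = 2 := by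
  apply Nat.gcd_eq_left
  obtain ⟨k, rfl⟩ := hodd
  exact ⟨k, by omega⟩

theorem z_psl2_odd (hQ : 2 ≤ Q) (hodd : Odd Q) (h : den (.psl 2 Q) * c = num (.psl 2 Q)) :
    2 * (c : ℤ) = (Q : ℤ) * ((Q : ℤ) ^ 2 - 1) := by
  have h' : Nat.gcd 2 (Q - 1) * (Q - 1) * c = (Q ^ 2 - Q ^ 0) * ((Q ^ 2 - Q ^ 1) * 1) := h
  rw [gcd_two_odd hQ hodd, mul_one] at h'
  have h2 := congrArg (fun x : ℕ => (x : ℤ)) h'
  simp only [Nat.cast_mul, cs1 (show 1 ≤ Q by omega), cg (show 1 ≤ Q by omega) (show 0 ≤ 2 by norm_num),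
    cg (show 1 ≤ Q by omega) (show 1 ≤ 2 by norm_num), Nat.cast_ofNat] at h2
  have hQ' : ((Q : ℤ) - 1) ≠ 0 := by
    have : (2 : ℤ) ≤ Q := by exact_mod_cast hQ
    omega
  apply mul_left_cancel₀ hQ'
  linear_combination h2

theorem z_psp2_odd (hQ : 2 ≤ Q) (hodd : Odd Q) (h : den (.psp 2 Q) * c = num (.psp 2 Q)) :
    2 * (c : ℤ) = (Q : ℤ) ^ 4 * (((Q : ℤ) ^ 2 - 1) * ((Q : ℤ) ^ 4 - 1)) := by
  have h' : Nat.gcd 2 (Q - 1) * c = Q ^ (2 ^ 2) * ((Q ^ 2 - 1) * ((Q ^ 4 - 1) * 1)) := h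
  rw [gcd_two_odd hQ hodd, mul_one] at h'
  have h2 := congrArg (fun x : ℕ => (x : ℤ)) h'
  simp only [Nat.cast_mul, cs (show 1 ≤ Q by omega), Nat.cast_pow, Nat.cast_ofNat] at h2
  linear_combination h2

end Z

theorem e12_psl2 {q n k c : ℤ} (hM : q ^ 4 - q ^ 2 + 1 ≠ 0) (hc : c = n * (q ^ 4 - q ^ 2 + 1) * (1 + k * (q ^ 4 - q ^ 2 + 1)))
    (h : 2 * c = q ^ 6 * ((q ^ 6) ^ 2 - 1)) : q ^ 4 - q ^ 2 + 1 ∣ 2 * n - (2 * q ^ 2 + 2) := by
  have h' : 2 * c = (q ^ 4 - q ^ 2 + 1) * (q ^ 14 + q ^ 12 - q ^ 8 - q ^ 6) := by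
    rw [h]
    ring
  exact key hM hc h' (c₀ := 2 * q ^ 2 + 2) (L := q ^ 10 + 2 * q ^ 8 + q ^ 6 - 2 * q ^ 4 - 4 * q ^ 2 - 2) (by ring)

theorem e12_psp2 {q n k c : ℤ} (hM : q ^ 4 - q ^ 2 + 1 ≠ 0) (hc : c = n * (q ^ 4 - q ^ 2 + 1) * (1 + k * (q ^ 4 - q ^ 2 + 1)))
    (h : 2 * c = (q ^ 3) ^ 4 * (((q ^ 3) ^ 2 - 1) * ((q ^ 3) ^ 4 - 1))) : q ^ 4 - q ^ 2 + 1 ∣ 2 * n - (4 * q ^ 2 + 4) := by
  have h' : 2 * c = (q ^ 4 - q ^ 2 + 1) * (q ^ 26 + q ^ 24 - 2 * q ^ 20 - 2 * q ^ 18 + q ^ 14 + q ^ 12) := by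
    rw [h]
    ring
  exact key hM hc h' (c₀ := 4 * q ^ 2 + 4) (L := q ^ 22 + 2 * q ^ 20 + q ^ 18 - 3 * q ^ 16 - 6 * q ^ 14 - 3 * q ^ 12 + 4 * q ^ 10 + 8 * q ^ 8 + 4 * q ^ 6 - 4 * q ^ 4 - 8 * q ^ 2 - 4) (by ring)

section Fin

variable {q n D : ℤ} (hq : 3 ≤ q) (hn : n = 1 ∨ n = 2 ∨ n = 3 ∨ n = 4 ∨ n = 6 ∨ n = 12)

include hq hn

theorem g12_psl2 (hd : q ^ 4 - q ^ 2 + 1 ∣ 2 * n - (2 * q ^ 2 + 2)) : False := by
  rcases (show q = 3 ∨ 4 ≤ q by omega) with rfl | h4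
  · norm_num at hd
    rcases hn with rfl | rfl | rfl | rfl | rfl | rfl <;> norm_num at hd
  · have h16 : 16 ≤ q ^ 2 := by nlinarith only [hq, h4]
    have e : q ^ 4 = q ^ 2 * q ^ 2 := by ring
    rw [e] at hd
    generalize q ^ 2 = s at h16 hd
    refine no_dvd' hd ?_ ?_
    · omega
    · nlinarith only [h16, show 1 ≤ n by omega]

theorem g12_psl3 (hD : D = 1 ∨ D = 3) (hd : q ^ 4 - q ^ 2 + 1 ∣ D * n - (6 * q ^ 2)) : False := by
  rcases (show q = 3 ∨ 4 ≤ q by omega) with rfl | h4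
  · norm_num at hd
    rcases hD with rfl | rfl <;> rcases hn with rfl | rfl | rfl | rfl | rfl | rfl <;> norm_num at hd
  · exact f12_psl3 (Or.inr h4) hn hD hd

theorem g12_psp2 (hd : q ^ 4 - q ^ 2 + 1 ∣ 2 * n - (4 * q ^ 2 + 4)) : False := by
  rcases (show q = 3 ∨ 4 ≤ q by omega) with rfl | h4
  · norm_num at hd
    rcases hn with rfl | rfl | rfl | rfl | rfl | rfl <;> norm_num at hd
  · have h16 : 16 ≤ q ^ 2 := by nlinarith only [hq, h4]
    have e : q ^ 4 = q ^ 2 * q ^ 2 := by ring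
    rw [e] at hd
    generalize q ^ 2 = s at h16 hd
    refine no_dvd' hd ?_ ?_
    · omega
    · nlinarith only [h16, show 1 ≤ n by omega]

end Fin

/-- the data for the `kill4` -/
theorem exists_four' {p f c : ℕ} (hp : p.Prime) (hf : 1 ≤ f) (hdvd : c ∣ num (.f4 (p ^ f))) :
    ∃ s y, Prim (p ^ f) 4 s ∧ ¬ s ∣ y ∧ 0 < y ∧ c ∣ (p ^ f) ^ 24 * (y * (((p ^ f) ^ 8 - 1) * ((p ^ f) ^ 12 - 1))) := by
  have hq : 2 ≤ p ^ f := hp.two_le.trans (Nat.le_self_pow (by omega) _)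
  obtain ⟨s, hs4⟩ := exists_prim (q := p ^ f) (e := 4) hq (by norm_num) (by omega)
  have hd : c ∣ (p ^ f) ^ 24 * (((p ^ f) ^ 2 - 1) * ((p ^ f) ^ 6 - 1) * ((p ^ f) ^ 8 - 1) * ((p ^ f) ^ 12 - 1)) := hdvd
  have b2 := sub_pos' (d := 2) hq (by norm_num)
  have b6 := sub_pos' (d := 6) hq (by norm_num)
  refine ⟨s, ((p ^ f) ^ 2 - 1) * ((p ^ f) ^ 6 - 1), hs4, fun h => ?_, Nat.mul_pos b2 b6, ?_⟩
  · rcases hs4.prime.dvd_mul.1 h with h | h
    · exact hs4.not_dvd_sub (by norm_num) h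
    · exact hs4.not_dvd_sub (by norm_num) h
  · refine hd.trans (dvd_of_eq ?_)
    ring

/-- **The names, class 12, `q > 2`.** -/
theorem charpF4 {p f n k c : ℕ} {g : Grp} (hp : p.Prime) (hf : 1 ≤ f) (hq3 : 2 < p ^ f) (hn : n ∣ 12) (hg : Cond g)
    (hch : HasChar p g) (hcg : den g * c = num g) (hdvd : c ∣ num (.f4 (p ^ f)))
    (hc : c = n * ((p ^ f) ^ 4 - (p ^ f) ^ 2 + 1) * (1 + k * ((p ^ f) ^ 4 - (p ^ f) ^ 2 + 1)))
    (hs : ∀ s, Prim p (f * 12) s → s ∣ c) :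
    g = .f4 (p ^ f) ∨ g = .psu 3 ((p ^ f) ^ 2) ∨ g = .g2 ((p ^ f) ^ 2) ∨ g = .td4 (p ^ f) := by
  rcases hp.eq_two_or_odd' with rfl | hpo
  · rcases charp12 hf hn hg hch hcg hdvd hc hs with h | ⟨h, -⟩ | ⟨h, -⟩ | ⟨h, -⟩ | ⟨h, -⟩
    · exact Or.inl h
    · exact Or.inr (Or.inl h)
    · exact Or.inr (Or.inr (Or.inl h))
    · exact Or.inr (Or.inr (Or.inr h))
    · subst h
      omega
  obtain ⟨s, y, hs4, hy, hy0, hd4⟩ := exists_four' hp hf hdvd
  have hn' := n12 hn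
  obtain ⟨q, hq⟩ : ∃ q, q = p ^ f := ⟨_, rfl⟩
  have hodd : Odd q := by rw [hq]; exact hpo.pow
  have hq2 : 3 ≤ q := by omega
  have hcZ : (c : ℤ) = n * ((q : ℤ) ^ 4 - (q : ℤ) ^ 2 + 1) * (1 + k * ((q : ℤ) ^ 4 - (q : ℤ) ^ 2 + 1)) := by
    rw [hc, ← hq]
    push_cast [cg (show 1 ≤ q by omega) (show 2 ≤ 4 by norm_num)]
    ring
  have hqo : (3 : ℤ) ≤ q := by exact_mod_cast hq2
  have hnZ : (n : ℤ) = 1 ∨ (n : ℤ) = 2 ∨ (n : ℤ) = 3 ∨ (n : ℤ) = 4 ∨ (n : ℤ) = 6 ∨ (n : ℤ) = 12 := by (clear * - hn'; omega)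
  have hM0 : (q : ℤ) ^ 4 - (q : ℤ) ^ 2 + 1 ≠ 0 := by nlinarith only [sq_nonneg ((q : ℤ) ^ 2 - 1)]
  have hpw : ∀ j, p ^ (f * j) = q ^ j := fun j => by rw [hq, ← pow_mul]
  have hodd' : ∀ j, Odd (q ^ j) := fun j => hodd.pow
  have hle : ∀ j, j ≠ 0 → 2 ≤ q ^ j := fun j hj => (show 2 ≤ q by omega).trans (Nat.le_self_pow hj q)
  obtain ⟨f₁, hf₁, h⟩ := Cfsg.Agent.H290.Wei.charp_f4_12 hp hf hg hch hcg hdvd hs
  rcases h with ⟨h5, rfl⟩ | ⟨h5, rfl⟩ | ⟨h5, rfl⟩ | ⟨h5, rfl⟩ | ⟨h5, rfl⟩ | ⟨h5, rfl⟩ | ⟨h5, rfl⟩ | ⟨h5, rfl⟩ |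
    ⟨h5, rfl⟩ | ⟨h5, rfl⟩ | ⟨h5, rfl⟩ | ⟨h5, rfl⟩ | ⟨h5, rfl⟩ | ⟨h5, rfl⟩
  · exfalso
    obtain rfl : f₁ = f * 6 := by omega
    rw [hpw] at hcg
    have hz := z_psl2_odd (hle 6 (by norm_num)) (hodd' 6) hcg
    rw [Nat.cast_pow] at hz
    exact g12_psl2 hqo hnZ (e12_psl2 hM0 hcZ hz)
  · exfalso
    obtain rfl : f₁ = f * 4 := by omega
    rw [hpw] at hcg
    obtain ⟨D, hD, hz⟩ := z_psl3 (hle 4 (by norm_num)) hcg
    rw [Nat.cast_pow] at hz
    exact g12_psl3 hqo hnZ hD (d12_psl3 hM0 hcZ hz)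
  · exfalso
    obtain rfl : f₁ = f * 3 := by omega
    rw [hpw] at hcg
    have hz := z_psp2_odd (hle 3 (by norm_num)) (hodd' 3) hcg
    rw [Nat.cast_pow] at hz
    exact g12_psp2 hqo hnZ (e12_psp2 hM0 hcZ hz)
  · exfalso
    obtain rfl : f₁ = f * 2 := by omega
    exact kill4_psp hp hf hs4 hy hy0 hd4 hcg
  · exfalso
    obtain rfl : f₁ = f * 2 := by omega
    exact kill4_oodd hp hf hs4 hy hy0 hd4 hcg
  · obtain rfl : f₁ = f * 2 := by omega
    right; left
    rw [hpw, ← hq]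
  · exfalso
    obtain rfl : f₁ = f * 2 := by omega
    exact kill4_psu hp hf hs4 hy hy0 hd4 hcg
  · exfalso
    obtain rfl : f₁ = f * 2 := by omega
    exact kill4_oplus hp hf hs4 hy hy0 hd4 hcg
  · obtain rfl : f₁ = f * 2 := by omega
    right; right; left
    rw [hpw, ← hq]
  · obtain rfl : f₁ = f := by omega
    exact Or.inl rfl
  · obtain rfl : f₁ = f := by omega
    exact Or.inr (Or.inr (Or.inr rfl))
  · exfalso
    obtain ⟨m, hm, hm2⟩ := hg
    have h6 : 2 ∣ p ^ f₁ := by rw [hm2]; exact dvd_pow_self 2 (by omega)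
    exact (Nat.not_even_iff_odd.2 hpo.pow) (even_iff_two_dvd.2 h6)
  · exfalso
    obtain ⟨m, hm, hm2⟩ := hg
    have h6 : 3 ∣ p ^ f₁ := by rw [hm2]; exact dvd_pow_self 3 (by omega)
    obtain rfl : 3 = p := (Nat.prime_dvd_prime_iff_eq Nat.prime_three hp).1 (Nat.prime_three.dvd_of_dvd_pow h6)
    have h7 : f₁ = 2 * m + 1 := Nat.pow_right_injective (by norm_num) hm2
    omega
  · exfalso
    obtain ⟨m, hm, hm2⟩ := hg
    have h6 : 2 ∣ p ^ f₁ := by rw [hm2]; exact dvd_pow_self 2 (by omega)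
    exact (Nat.not_even_iff_odd.2 hpo.pow) (even_iff_two_dvd.2 h6)

end Cfsg.Agent.H824.Wei
end

-- part: H824/Wei/Red
section
/-!
# Overgroups of the torus of class 12 of `F₄(q)`, `q > 2`: reduction (helper824)
-/

set_option autoImplicit false

namespace Cfsg.Agent.H824.Wei

open Cfsg Cfsg.Agent.OrdDiv Cfsg.Agent.H436 Cfsg.Agent.H902 Cfsg.Agent.H290.ElReg Cfsg.Agent.H290.ElTab
  Cfsg.Agent.H56.Exc Cfsg.Agent.H325.Loc Cfsg.Agent.H915.GN Cfsg.Agent.H264.FKS Cfsg.Agent.H325.Same Cfsg.Agent.H325.IsoExc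
  Cfsg.Agent.H563.KG

section F4

variable {F : Type} [Field F] [Fintype F]

/-- **The overgroups: four names.** -/
theorem red_F4 (tb : OrderTable.{0}) (hcyc : CycFixSolv.{0}) (hcf : CF) {q : ℕ} (hF : Fintype.card F = q) (hq2 : 2 < q)
    (B : Subgroup ↥(Lie.chevF4.group F)) {x : ↥(Lie.chevF4.group F)} (hx : orderOf x = q ^ 4 - q ^ 2 + 1) (hxB : x ∈ B)
    (hB : B ≠ ⊤) :
    (Subgroup.zpowers (⟨x, hxB⟩ : B)).Normal ∨
    ∃ (S : Subgroup B) (_ : S.Normal) (_ : IsSimpleGroup S), ¬ IsMulCommutative S ∧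
      Subgroup.centralizer (S : Set B) = ⊥ ∧ (⟨x, hxB⟩ : B) ∈ S ∧
      ∃ g, IsNamed g S ∧ (g = .psu 3 (q ^ 2) ∨ g = .g2 (q ^ 2) ∨ g = .td4 q) := by
  obtain ⟨p, f, _, hp, hf, hq⟩ := exists_pf F
  have := Fact.mk hp
  have hfin : Finite ↥(Lie.chevF4.group F) := inferInstance
  have hT := named_f4 (F := F) tb
  rw [hq] at hT
  obtain rfl : q = p ^ f := by rw [← hF, hq]
  have hq1 : 1 ≤ p ^ f := by omega
  have hOL : num (.f4 (p ^ f)) = OL .F4 (p ^ f) := rfl
  have hdT : Nat.card ↥(Lie.chevF4.group F) ∣ OL .F4 (p ^ f) := by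
    rw [← hOL, ← hT.eq]
    exact Dvd.intro_left _ rfl
  have hPh : Ph 12 (p ^ f) = (p ^ f) ^ 4 - (p ^ f) ^ 2 + 1 := rfl
  have hncl : ncl 12 (p ^ f) = (p ^ f) ^ 4 - (p ^ f) ^ 2 + 1 := by rw [ncl12_eq, hPh]
  have hgt : 52 < ncl 12 (p ^ f) := ncl12_gt (by omega)
  set M := (p ^ f) ^ 4 - (p ^ f) ^ 2 + 1 with hM
  have hm12 : ((M : ℕ) : ℤ) = 1 - ((p ^ f : ℕ) : ℤ) ^ 2 + ((p ^ f : ℕ) : ℤ) ^ 4 := by
    rw [← hPh, cast_Ph12 _ hq1]; ring
  have hbig : ∀ r, Prim (p ^ f) 12 r → Big ↥(Lie.chevF4.group F) r M 12 := fun r hr => big_F4_12 hF hm12 hr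
  have hprim : ∀ r, r.Prime → r ∣ M → Prim (p ^ f) 12 r := fun r h1 h2 => prim_of_dvd c12 hq1 h1 (hncl ▸ h2)
  have hdvdM : ∀ r, Prim (p ^ f) 12 r → r ∣ M := fun r hr => hncl ▸ dvd_ncl c12 hq1 hr
  obtain ⟨r₀, hr₀⟩ := exists_prim (q := p ^ f) (by omega) (show 3 ≤ 12 by norm_num) (by norm_num)
  have hpiso : PIso p r₀ ↥(Lie.chevF4.group F) := piso_F4 (F := F) (Or.inr rfl) (by rw [hq]; exact hr₀)
  have hMB : M ∣ Nat.card B := by
    have h1 := orderOf_dvd_natCard (⟨x, hxB⟩ : B)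
    rwa [Subgroup.orderOf_mk, hx] at h1
  have hord : _root_.Cfsg.Agent.H563.KG.Ord B (p ^ f) 12 M := fun r hr x hx => ((hbig r hr).subgroup B).card x hx
  rcases core hcyc (M := M) (E := 12) (n := 52) (F := F) (by omega) (by norm_num) (by omega) hp fth_F4
    (fun r h1 h2 => hbig r (hprim r h1 h2)) hr₀.prime (hdvdM _ hr₀) hpiso hx hxB
    (fun t ht htp htn htB => good_one hord c12 hq1 ht htn hgt (hncl.symm ▸ hMB)) with h | ⟨S, hSn, hSs, hSna, hSc, hxS, hSb, n, k, hn, hcS⟩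
  · exact Or.inl h
  right
  refine ⟨S, hSn, hSs, hSna, hSc, hxS, ?_⟩
  have hSs' : IsSimpleGroup S := hSs
  have hrep : Fth 52 F S := Fth.sub fth_F4 (B.subtype.comp S.subtype)
    (B.subtype_injective.comp S.subtype_injective)
  have hdS : Nat.card S ∣ num (.f4 (p ^ f)) := IsNamed.card_dvd hT S
  have hMS : M ∣ Nat.card S := by
    rw [hcS]
    exact (dvd_mul_left M n).mul_right _
  obtain ⟨g, hg, hch⟩ := name3 tb (e := 12) (n := 52) (d := 12) (Y := .F4) (by norm_num) bndR_52_12 svR3_F4 bndS_12 svS3_F4 c12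
    (by norm_num) (fun _ => le_seven12) hp hf hq2 (by omega) (by norm_num) (M := M) hSna (hcf S) hrep (hncl.symm ▸ hMS)
    hdS (fun r hr => hSb r hr.prime (hdvdM r hr))
  refine ⟨g, hg, ?_⟩
  rcases charpF4 hp hf hq2 ((Dvd.intro_left _ rfl).trans hn) hg.cond hch hg.eq hdS hcS (fun s hs =>
    (hdvdM s (Cfsg.Agent.H264.GN.prim_pow hf hs)).trans hMS) with rfl | rfl | rfl | rfl
  · exact absurd (eq_top_of_name hT hg) hB
  · exact Or.inl rfl
  · exact Or.inr (Or.inl rfl)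
  · exact Or.inr (Or.inr rfl)

end F4

end Cfsg.Agent.H824.Wei
end

-- part: H824/Wei/KillG2
section
/-!
# `F₄(q)` has no subgroup `G₂(q²)` (helper824)

An element of `F₄(q)` has no order divisible by a primitive prime of `q^3 - 1` and one of `q^6 - 1`.
-/

set_option autoImplicit false

namespace Cfsg.Agent.H824.Wei

open Cfsg Cfsg.Agent.OrdDiv Cfsg.Agent.H436 Cfsg.Agent.H264.FKS Cfsg.Lie

/-- the orders of `F₄(q)` -/
theorem no_36 {K : Type} [Field K] [Fintype K] {q : ℕ} (hK : Fintype.card K = q) (a : ↥(chevF4.group K)) {s t : ℕ}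
    (hs : Prim q 3 s) (ht : Prim q 6 t) (hsa : s ∣ orderOf a) (hta : t ∣ orderOf a) : False := by
  obtain ⟨p, f, hch, hp, hf, hq⟩ := Cfsg.Agent.H563.KG.exists_pf K
  have := Fact.mk hp
  obtain ⟨b, m, h⟩ := Cfsg.Agent.H378.OmF4.om_F4 (p := p) (K := K) (q := q) (by rw [Nat.card_eq_fintype_card, hK]) a
  obtain rfl : q = p ^ f := by rw [← hK, hq]
  have hq1 : 1 ≤ p ^ f := Nat.one_le_pow _ _ hp.pos
  rw [h.eq] at hsa hta
  have hpq : p ∣ p ^ f := dvd_pow_self p (by omega)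
  have key : ∀ {r e : ℕ}, Prim (p ^ f) e r → r ∣ p ^ b * m → r ∣ m := by
    intro r e hr h1
    rcases hr.prime.dvd_mul.1 h1 with h2 | h2
    · exact absurd ((hr.prime.dvd_of_dvd_pow h2).trans hpq) hr.not_dvd
    · exact h2
  have hsm := key hs hsa
  have htm := key ht hta
  have hs2 : ¬ s ∣ 2 := hs.not_dvd_two (by norm_num)
  -- `s` does not divide `q^3 + 1`
  have hs3 : ¬ s ∣ (p ^ f) ^ 3 + 1 := by
    intro h1
    have h2 : s ∣ (p ^ f) ^ 3 - 1 := hs.dvd dvd_rfl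
    have h3 : s ∣ ((p ^ f) ^ 3 + 1) - ((p ^ f) ^ 3 - 1) := Nat.dvd_sub h1 h2
    have h4 : 1 ≤ (p ^ f) ^ 3 := Nat.one_le_pow _ _ hq1
    have h5 : ((p ^ f) ^ 3 + 1) - ((p ^ f) ^ 3 - 1) = 2 := by omega
    rw [h5] at h3
    exact hs2 h3
  have hs6 : ¬ s ∣ (p ^ f) ^ 6 + 1 := by
    intro h1
    have h2 : s ∣ (p ^ f) ^ 6 - 1 := hs.dvd (by norm_num)
    have h3 : s ∣ ((p ^ f) ^ 6 + 1) - ((p ^ f) ^ 6 - 1) := Nat.dvd_sub h1 h2
    have h4 : 1 ≤ (p ^ f) ^ 6 := Nat.one_le_pow _ _ hq1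
    have h5 : ((p ^ f) ^ 6 + 1) - ((p ^ f) ^ 6 - 1) = 2 := by omega
    rw [h5] at h3
    exact hs2 h3
  rcases h.s0 with h1 | h1 | h1 | h1 | h1
  · -- `Φ₁₂`
    apply hs6
    refine (hsm.trans h1).trans ⟨(p ^ f) ^ 2 + 1, ?_⟩
    have h2 : (p ^ f) ^ 2 ≤ (p ^ f) ^ 4 := Nat.pow_le_pow_right hq1 (by norm_num)
    zify [h2]
    ring
  · -- `Φ₈`
    have h2 : s ∣ (p ^ f) ^ 8 - 1 := by
      refine (hsm.trans h1).trans ⟨(p ^ f) ^ 4 - 1, ?_⟩
      have h2 : 1 ≤ (p ^ f) ^ 4 := Nat.one_le_pow _ _ hq1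
      have h3 : 1 ≤ (p ^ f) ^ 8 := Nat.one_le_pow _ _ hq1
      zify [h2, h3]
      ring
    exact hs.not_dvd_sub (by norm_num) h2
  · exact hs.not_dvd_sub (m := 4) (by norm_num) (hsm.trans h1)
  · rcases ht.prime.dvd_mul.1 (htm.trans h1) with h2 | h2
    · exact ht.not_dvd_sub (m := 3) (by norm_num) h2
    · exact ht.not_dvd_qadd (by norm_num) h2
  · rcases hs.prime.dvd_mul.1 (hsm.trans h1) with h2 | h2
    · exact hs3 h2
    · exact hs.not_dvd_qsub (by norm_num) h2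

/-- `G₂(q²)` has an element of order divisible by two primitive primes -/
theorem exists_36 {q s t : ℕ} (hs : Prim q 3 s) (ht : Prim q 6 t) {S : Type} [Group S] [Finite S]
    (hS : IsNamed (.g2 (q ^ 2)) S) : ∃ a : S, s ∣ orderOf a ∧ t ∣ orderOf a := by
  obtain ⟨F, _, _, hF, ⟨e⟩⟩ : ∃ (F : Type) (_ : Field F) (_ : Fintype F), Fintype.card F = q ^ 2 ∧
      Nonempty (S ≃* ↥(chevG2.group F)) := hS.real
  have hq2 : 2 ≤ q ^ 2 := by
    have h1 := hS.cond.1
    omega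
  have hq1 : 1 ≤ q := by
    rcases Nat.eq_zero_or_pos q with rfl | h
    · norm_num at hq2
    · exact h
  have hs7 := hs.not_dvd_qsub (by norm_num : 3 ≤ 3)
  have hs1 : s ∣ 1 + q ^ 2 + (q ^ 2) ^ 2 := by
    -- `(q - 1) (q + 1) (q^4 + q^2 + 1) = q^6 - 1`
    have h1 : s ∣ (q ^ 2 - 1) * (1 + q ^ 2 + (q ^ 2) ^ 2) := by
      have h2 : (q ^ 2 - 1) * (1 + q ^ 2 + (q ^ 2) ^ 2) = q ^ 6 - 1 := by
        have h3 : 1 ≤ q ^ 2 := Nat.one_le_pow _ _ hq1
        have h4 : 1 ≤ q ^ 6 := Nat.one_le_pow _ _ hq1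
        zify [h3, h4]
        ring
      rw [h2]
      exact hs.dvd (by norm_num)
    rcases hs.prime.dvd_mul.1 h1 with h2 | h2
    · exact absurd h2 (hs.not_dvd_sub (by norm_num))
    · exact h2
  have ht1 : t ∣ 1 + q ^ 2 + (q ^ 2) ^ 2 := by
    have h1 : t ∣ (q ^ 2 - 1) * (1 + q ^ 2 + (q ^ 2) ^ 2) := by
      have h2 : (q ^ 2 - 1) * (1 + q ^ 2 + (q ^ 2) ^ 2) = q ^ 6 - 1 := by
        have h3 : 1 ≤ q ^ 2 := Nat.one_le_pow _ _ hq1
        have h4 : 1 ≤ q ^ 6 := Nat.one_le_pow _ _ hq1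
        zify [h3, h4]
        ring
      rw [h2]
      exact ht.dvd (by norm_num)
    rcases ht.prime.dvd_mul.1 h1 with h2 | h2
    · exact absurd h2 (ht.not_dvd_sub (by norm_num))
    · exact h2
  have hs3 : s ≠ 3 := by
    have h1 : 2 ≤ q := by
      by_contra h2
      have h3 : q = 1 := by omega
      subst h3
      norm_num at hq2
    have := Cfsg.Agent.H563.KG.lt_of_prim h1 (by norm_num) hs
    omega
  obtain ⟨T, hT, -, hm, -, -⟩ := Cfsg.Agent.H129.CycCard.card_G2_3 (F := F) hF (m := 1 + q ^ 2 + (q ^ 2) ^ 2) (by push_cast; ring)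
    hs.prime (by exact_mod_cast hs1) hs3
  rw [one_mul] at hm
  obtain ⟨g, hg⟩ := hT.exists_generator
  have hgo : orderOf g = Nat.card T := orderOf_eq_card_of_forall_mem_zpowers hg
  refine ⟨e.symm (g : ↥(chevG2.group F)), ?_, ?_⟩
  · rw [MulEquiv.orderOf_eq, Subgroup.orderOf_coe, hgo]
    exact hs1.trans hm
  · rw [MulEquiv.orderOf_eq, Subgroup.orderOf_coe, hgo]
    exact ht1.trans hm

/-- **`F₄(q)` has no subgroup `G₂(q²)`.** -/
theorem no_G2 {K : Type} [Field K] [Fintype K] {q : ℕ} (hK : Fintype.card K = q) (hq2 : 2 < q) {S : Type} [Group S]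
    [Finite S] (hS : IsNamed (.g2 (q ^ 2)) S) (φ : S →* ↥(chevF4.group K)) (hφ : Function.Injective φ) : False := by
  obtain ⟨s, hs⟩ := exists_prim (q := q) (e := 3) (by omega) (by norm_num) (by omega)
  obtain ⟨t, ht⟩ := exists_prim (q := q) (e := 6) (by omega) (by norm_num) (by omega)
  obtain ⟨a, h1, h2⟩ := exists_36 hs ht hS
  rw [← orderOf_injective φ hφ a] at h1 h2
  exact no_36 hK (φ a) hs ht h1 h2

end Cfsg.Agent.H824.Wei
end

-- part: H824/Wei/F4Alg
section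
/-!
# The root system `F₄` modulo a prime: no `S₃` acting as reflections on an eigenspace (helper824)

`no_config` : `t₁, t₂ : ℤ⁴ → ℤ/s` independent, `w₀` acts on them by a scalar `j`, `j² = -1`, `w₁, w₂` as two reflections
generating `S₃`; a root with `t₁ = 0`: contradiction.
-/

set_option autoImplicit false

namespace Cfsg.Agent.H824.Wei

open CoxeterSystem Cfsg Cfsg.Lie Cfsg.Lie.ChevalleyDatum
open Cfsg.Agent.ChevalleyStructure Cfsg.Agent.ChevalleyStructure.CoxeterGeom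
  Cfsg.Agent.ChevalleyStructure.CoxeterGeomTypes
open Cfsg.Agent.Tits.Roots Cfsg.Agent.Nodes.RGDChev

/-- the invariant form -/
def bf (x y : Fin 4 → ℤ) : ℤ :=
  2 * x 0 * y 0 - x 0 * y 1 - x 1 * y 0 + 2 * x 1 * y 1 - 2 * x 1 * y 2 - 2 * x 2 * y 1 + 4 * x 2 * y 2 -
    2 * x 2 * y 3 - 2 * x 3 * y 2 + 4 * x 3 * y 3

theorem bf_comm (x y : Fin 4 → ℤ) : bf x y = bf y x := by
  unfold bf; ring

theorem bf_add_left (x y z : Fin 4 → ℤ) : bf (x + y) z = bf x z + bf y z := by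
  simp only [bf, Pi.add_apply]; ring

theorem bf_add_right (x y z : Fin 4 → ℤ) : bf x (y + z) = bf x y + bf x z := by
  simp only [bf, Pi.add_apply]; ring

theorem bf_neg_left (x z : Fin 4 → ℤ) : bf (-x) z = - bf x z := by
  simp only [bf, Pi.neg_apply]; ring

theorem bf_neg_right (x z : Fin 4 → ℤ) : bf x (-z) = - bf x z := by
  simp only [bf, Pi.neg_apply]; ring

theorem bf_smul_right (c : ℤ) (x z : Fin 4 → ℤ) : bf x (c • z) = c * bf x z := by
  simp only [bf, Pi.smul_apply, smul_eq_mul]; ring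

section W

variable {W : Type*} [Group W] (hp : IsType chevF4 4 CoxeterMatrix.F₄) (cs : CoxeterSystem CoxeterMatrix.F₄ W)

theorem cart_apply : ∀ i j : Fin 4, cartanOf chevF4 4 i j =
    (([[2, -1, 0, 0], [-1, 2, -2, 0], [0, -1, 2, -1], [0, 0, -1, 2]] : List (List ℤ)).getD i []).getD j 0 := by
  decide +kernel

theorem refl_app (i : Fin 4) (x : Fin 4 → ℤ) (k : Fin 4) : CoxeterGeom.refl (cartanOf chevF4 4) i x k =
    x k - if k = i then ∑ j, cartanOf chevF4 4 i j * x j else 0 := by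
  show x k - (Pi.single i (_root_.Cfsg.Agent.ChevalleyStructure.CoxeterGeom.pairing (cartanOf chevF4 4) i x) : Fin 4 → ℤ) k = _
  rw [Pi.single_apply]
  rfl

theorem bf_refl (i : Fin 4) (x y : Fin 4 → ℤ) :
    bf (CoxeterGeom.refl (cartanOf chevF4 4) i x) (CoxeterGeom.refl (cartanOf chevF4 4) i y) = bf x y := by
  fin_cases i <;>
  · simp only [bf, refl_app, Fin.sum_univ_four, cart_apply]
    simp only [_root_.Fin.isValue, _root_.Fin.zero_eta, ↓ _root_.reduceIte, _root_.Int.reduceNeg, _root_.List.getD_eq_getElem?_getD, _root_.List.length_cons, _root_.List.length_nil, _root_.zero_add, _root_.Nat.reduceAdd, _root_.Nat.ofNat_pos, _root_.getElem?_pos, _root_.List.getElem_cons_zero, _root_.Option.getD_some, _root_.Fin.coe_ofNat_eq_mod, _root_.Nat.zero_mod, _root_.Nat.one_mod, _root_.Nat.one_lt_ofNat, _root_.List.getElem_cons_succ, _root_.neg_mul, _root_.one_mul, _root_.Nat.reduceMod, _root_.Nat.reduceLT, _root_.MulZeroClass.zero_mul,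 _root_.add_zero, _root_.Nat.mod_succ, _root_.Nat.lt_add_one, _root_.one_ne_zero, _root_.sub_zero, _root_.Fin.reduceEq, _root_.add_left_inj, _root_.sub_left_inj, _root_.Fin.mk_one, _root_.zero_ne_one, _root_.Fin.reduceFinMk]
    ring

theorem bf_rep (w : W) (x y : Fin 4 → ℤ) : bf (rep cs hp.isCartan w x) (rep cs hp.isCartan w y) = bf x y := by
  obtain ⟨ω, rfl⟩ := cs.wordProd_surjective w
  induction ω generalizing x y with
  | nil => rw [wordProd_nil, map_one, Module.End.one_apply, Module.End.one_apply]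
  | cons i ω ih => rw [wordProd_cons, rep_mul_apply, rep_mul_apply, rep_simple, bf_refl, ih]

/-! ### the roots -/

/-- the roots -/
def RL : List (List ℤ) := [[-2, -4, -3, -2], [-2, -4, -3, -1], [-2, -4, -2, -1], [-2, -3, -2, -1],
  [-2, -2, -2, -1], [-2, -2, -1, -1], [-2, -2, -1, 0], [-1, -3, -2, -1], [-1, -2, -2, -1], [-1, -2, -1, -1],
  [-1, -2, -1, 0], [-1, -1, -1, -1], [-1, -1, -1, 0], [-1, -1, 0, 0], [-1, 0, 0, 0], [0, -2, -2, -1],
  [0, -2, -1, -1], [0, -2, -1, 0], [0, -1, -1, -1], [0, -1, -1, 0], [0, -1, 0, 0], [0, 0, -1, -1], [0, 0, -1, 0],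
  [0, 0, 0, -1], [0, 0, 0, 1], [0, 0, 1, 0], [0, 0, 1, 1], [0, 1, 0, 0], [0, 1, 1, 0], [0, 1, 1, 1], [0, 2, 1, 0],
  [0, 2, 1, 1], [0, 2, 2, 1], [1, 0, 0, 0], [1, 1, 0, 0], [1, 1, 1, 0], [1, 1, 1, 1], [1, 2, 1, 0], [1, 2, 1, 1],
  [1, 2, 2, 1], [1, 3, 2, 1], [2, 2, 1, 0], [2, 2, 1, 1], [2, 2, 2, 1], [2, 3, 2, 1], [2, 4, 2, 1], [2, 4, 3, 1],
  [2, 4, 3, 2]]

/-- the form on lists -/
def bl (x y : List ℤ) : ℤ :=
  2 * x.getD 0 0 * y.getD 0 0 - x.getD 0 0 * y.getD 1 0 - x.getD 1 0 * y.getD 0 0 + 2 * x.getD 1 0 * y.getD 1 0 -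
    2 * x.getD 1 0 * y.getD 2 0 - 2 * x.getD 2 0 * y.getD 1 0 + 4 * x.getD 2 0 * y.getD 2 0 -
    2 * x.getD 2 0 * y.getD 3 0 - 2 * x.getD 3 0 * y.getD 2 0 + 4 * x.getD 3 0 * y.getD 3 0

theorem vec_eq : ∀ r < 48, RL.getD r [] ∈ RL ∧ ∀ i : Fin 4, vec chevF4 4 r i = (RL.getD r []).getD i 0 := by
  decide +kernel

theorem root_mem {x : Fin 4 → ℤ} (h : IsRoot cs hp.isCartan x) : ∃ v ∈ RL, ∀ i : Fin 4, x i = v.getD i 0 := by
  obtain ⟨r, hr, rfl⟩ := (isRoot_iff hp cs x).1 h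
  have hr' : r < 48 := hr
  exact ⟨RL.getD r [], (vec_eq r hr').1, (vec_eq r hr').2⟩

theorem bf_eq {x y : Fin 4 → ℤ} {v w : List ℤ} (h1 : ∀ i : Fin 4, x i = v.getD i 0) (h2 : ∀ i : Fin 4, y i = w.getD i 0) :
    bf x y = bl v w := by
  simp only [bf, h1, h2]
  rfl

/-- `c = 0` or `c ∣ 24` -/
def sml (c : ℤ) : Bool := c == 0 || 24 % c == 0

def chk1 : Bool := RL.all fun v => (bl v v == 2 || bl v v == 4) && RL.all fun w =>
  !(bl v v == bl w w) || (sml (bl v v + bl v w) && (!(bl v v + bl v w == 0) || ((List.range 4).all fun i => w.getD i 0 == -(v.getD i 0))))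

def chk2 : Bool := RL.all fun v => RL.all fun w =>
  !(bl v v == bl w w) || (sml (2 * bl v w + bl v v) && sml (bl v w) && (!(2 * bl v w + bl v v == 0) || (RL.all fun u =>
    !(bl u u == bl v v) || !(bl v u == 0) || !(bl w u == 0))))

private noncomputable def _root_.Cfsg.Agent.LsF.ff74547_19 : {f // @Cfsg.Agent.H824.Wei.bl = f} := ⟨_, by first | (delta Cfsg.Agent.H824.Wei.bl; rewrite [Cfsg.Agent.LsF.iadd_pat, Cfsg.Agent.LsF.imul_pat, Cfsg.Agent.LsF.isub_pat, Cfsg.Agent.LsF.getD_eq]; exact rfl) | exact rfl⟩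
private noncomputable def _root_.Cfsg.Agent.LsF.ff74547_20 : {f // @Cfsg.Agent.H824.Wei.sml = f} := ⟨_, by first | (delta Cfsg.Agent.H824.Wei.sml; rewrite [Cfsg.Agent.LsF.imod_pat, Cfsg.Agent.LsF.ibeq_pat, Cfsg.Agent.LsF.or_eq]; exact rfl) | exact rfl⟩
private noncomputable def _root_.Cfsg.Agent.LsF.ff74547_21 : {f // @Cfsg.Agent.H824.Wei.chk1 = f} := ⟨_, by first | (delta Cfsg.Agent.H824.Wei.chk1; rewrite [Cfsg.Agent.LsF.ff74547_19.2, Cfsg.Agent.LsF.ff74547_20.2, Cfsg.Agent.LsF.iadd_pat, Cfsg.Agent.LsF.ineg_pat, Cfsg.Agent.LsF.ibeq_pat, Cfsg.Agent.LsF.and_eq, Cfsg.Agent.LsF.or_eq, Cfsg.Agent.LsF.not_eq, Cfsg.Agent.LsF.all_eq, Cfsg.Agent.LsF.range_eq, Cfsg.Agent.LsF.getD_eq]; exact rfl) | exact rfl⟩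
theorem chk1_ok : chk1 = true := by ((try (rewrite [Cfsg.Agent.LsF.ff74547_21.2])); decide +kernel)
private noncomputable def _root_.Cfsg.Agent.LsF.ff74547_22 : {f // @Cfsg.Agent.H824.Wei.chk2 = f} := ⟨_, by first | (delta Cfsg.Agent.H824.Wei.chk2; rewrite [Cfsg.Agent.LsF.ff74547_19.2, Cfsg.Agent.LsF.ff74547_20.2, Cfsg.Agent.LsF.iadd_pat, Cfsg.Agent.LsF.imul_pat, Cfsg.Agent.LsF.ibeq_pat, Cfsg.Agent.LsF.and_eq, Cfsg.Agent.LsF.or_eq, Cfsg.Agent.LsF.not_eq, Cfsg.Agent.LsF.all_eq]; exact rfl) | exact rfl⟩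
theorem chk2_ok : chk2 = true := by ((try (rewrite [Cfsg.Agent.LsF.ff74547_22.2])); decide +kernel)

theorem eq_zero_of_sml {s : ℕ} (hs : s.Prime) (h5 : 5 ≤ s) {c : ℤ} (hc : sml c = true) (hd : ((c : ℤ) : ZMod s) = 0) :
    c = 0 := by
  unfold sml at hc
  rw [Bool.or_eq_true, beq_iff_eq, beq_iff_eq] at hc
  rcases hc with h | h
  · exact h
  · exfalso
    rw [ZMod.intCast_zmod_eq_zero_iff_dvd] at hd
    have h1 : (s : ℤ) ∣ 24 := hd.trans (Int.dvd_of_emod_eq_zero h)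
    have h2 : s ∣ 2 ^ 3 * 3 := by exact_mod_cast h1
    rcases hs.dvd_mul.1 h2 with h3 | h3
    · have := Nat.le_of_dvd (by norm_num) (hs.dvd_of_dvd_pow h3)
      omega
    · have := Nat.le_of_dvd (by norm_num) h3
      omega

section Chk

variable {s : ℕ} (hs : s.Prime) (h5 : 5 ≤ s) {x y z : Fin 4 → ℤ} (hx : IsRoot cs hp.isCartan x)
  (hy : IsRoot cs hp.isCartan y)

include hs h5 hx hy in
/-- roots of the same length with `B(x, x) + B(x, y) = 0` modulo `s` are opposite -/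
theorem neg_of (hN : bf x x = bf y y) (h : ((bf x x + bf x y : ℤ) : ZMod s) = 0) : y = -x := by
  obtain ⟨v, hv, h1⟩ := root_mem hp cs hx
  obtain ⟨w, hw, h2⟩ := root_mem hp cs hy
  have h3 := List.all_eq_true.1 chk1_ok v hv
  rw [Bool.and_eq_true] at h3
  have h4 := List.all_eq_true.1 h3.2 w hw
  rw [bf_eq h1 h1, bf_eq h2 h2] at hN
  rw [bf_eq h1 h1, bf_eq h1 h2] at h
  rw [hN, beq_self_eq_true, Bool.not_true, Bool.false_or, ← hN, Bool.and_eq_true] at h4
  have h6 := eq_zero_of_sml hs h5 h4.1 h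
  have h7 := h4.2
  rw [h6, beq_self_eq_true, Bool.not_true, Bool.false_or, List.all_eq_true] at h7
  funext i
  have h8 := h7 i (List.mem_range.2 i.2)
  rw [beq_iff_eq] at h8
  rw [Pi.neg_apply, h1, h2]
  exact h8

include hs h5 hx hy in
/-- no root of the same length orthogonal to `x` and `y` -/
theorem no_orth (hz : IsRoot cs hp.isCartan z) (hxy : bf x x = bf y y) (hxz : bf z z = bf x x)
    (h1 : ((2 * bf x y + bf x x : ℤ) : ZMod s) = 0) (h2 : bf x z = 0) (h3 : ((bf y z : ℤ) : ZMod s) = 0) : False := by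
  obtain ⟨v, hv, e1⟩ := root_mem hp cs hx
  obtain ⟨w, hw, e2⟩ := root_mem hp cs hy
  obtain ⟨u, hu, e3⟩ := root_mem hp cs hz
  rw [bf_eq e1 e1, bf_eq e2 e2] at hxy
  rw [bf_eq e1 e1, bf_eq e3 e3] at hxz
  rw [bf_eq e1 e1, bf_eq e1 e2] at h1
  rw [bf_eq e1 e3] at h2
  rw [bf_eq e2 e3] at h3
  have h4 := List.all_eq_true.1 (List.all_eq_true.1 chk2_ok v hv) w hw
  have h5' := List.all_eq_true.1 (List.all_eq_true.1 chk2_ok w hw) u hu
  simp only [Bool.or_eq_true, Bool.and_eq_true, Bool.not_eq_true', beq_eq_false_iff_ne, List.all_eq_true] at h4 h5'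
  rcases h4 with h4 | ⟨⟨h4, -⟩, h6⟩
  · exact h4 hxy
  have h7 := eq_zero_of_sml hs h5 h4 h1
  rcases h6 with h6 | h6
  · exact h6 h7
  rcases h5' with h8 | ⟨⟨-, h8⟩, -⟩
  · exact h8 (hxy.symm.trans hxz.symm)
  have h9 := eq_zero_of_sml hs h5 h8 h3
  rcases h6 u hu with (h10 | h10) | h10
  · exact h10 hxz
  · exact h10 h2
  · exact h10 h9

end Chk

end W

end Cfsg.Agent.H824.Wei
end

-- part: H824/Wei/F4Iso
section
/-!
# The kernel of an eigenspace is isotropic (helper824)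
-/

set_option autoImplicit false

namespace Cfsg.Agent.H824.Wei

open CoxeterSystem Cfsg Cfsg.Lie Cfsg.Lie.ChevalleyDatum
open Cfsg.Agent.ChevalleyStructure Cfsg.Agent.ChevalleyStructure.CoxeterGeom
  Cfsg.Agent.ChevalleyStructure.CoxeterGeomTypes
open Cfsg.Agent.Tits.Roots Cfsg.Agent.Nodes.RGDChev

section Lin

variable {s : ℕ} [hs : Fact s.Prime]

/-- the Gram matrix modulo `s` -/
def gm (s : ℕ) : Matrix (Fin 4) (Fin 4) (ZMod s) := !![2, -1, 0, 0; -1, 2, -2, 0; 0, -2, 4, -2; 0, 0, -2, 4]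

/-- reduction modulo `s` -/
def rd (s : ℕ) (x : Fin 4 → ℤ) : Fin 4 → ZMod s := fun i => (x i : ZMod s)

theorem det_gm : (gm s).det = 4 := by
  rw [gm, Matrix.det_succ_row_zero]
  simp only [Fin.sum_univ_four, Matrix.det_fin_three, Matrix.submatrix, Fin.succAbove, _root_.Nat.succ_eq_add_one, _root_.Nat.reduceAdd, _root_.Fin.isValue, _root_.Matrix.of_apply, _root_.Matrix.cons_val', _root_.Matrix.cons_val_fin_one, _root_.Matrix.cons_val_zero, _root_.Matrix.cons_val_succ, _root_.Fin.castSucc_zero, _root_.Fin.succ_zero_eq_one, _root_.Fin.castSucc_one, _root_.Fin.succ_one_eq_two, _root_.Matrix.cons_val_one, _root_.Fin.reduceCastSucc, _root_.Fin.reduceSucc, _root_.Matrix.cons_val, _root_.Fin.coe_ofNat_eq_mod, _root_.Nat.zero_mod, _root_.pow_zero, _root_.one_mul, _root_.lt_self_iff_false, ↓ _root_.reduceIte, _root_.not_lt_zero, _root_.mul_neg, _root_.neg_mul, _root_.neg_neg, _root_.MulZeroClass.mul_zero, _root_.add_zero,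 _root_.MulZeroClass.zero_mul, _root_.neg_zero, _root_.sub_zero, _root_.Nat.one_mod, _root_.pow_one, _root_.mul_one, _root_.zero_lt_one, _root_.Fin.lt_one_iff, _root_.Fin.reduceEq, _root_.sub_neg_eq_add, _root_.Nat.reduceMod, _root_.even_two, _root_.Even.neg_pow, _root_.one_pow, _root_.Fin.reduceLT, _root_.Nat.mod_succ]
  ring

/-- the form modulo `s` -/
noncomputable def bz (s : ℕ) [Fact s.Prime] : LinearMap.BilinForm (ZMod s) (Fin 4 → ZMod s) := Matrix.toBilin' (gm s)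

theorem bz_rd (x y : Fin 4 → ℤ) : bz s (rd s x) (rd s y) = ((bf x y : ℤ) : ZMod s) := by
  rw [bz, Matrix.toBilin'_apply]
  simp only [Fin.sum_univ_four, gm, rd, bf]
  simp only [_root_.Fin.isValue, _root_.Matrix.of_apply, _root_.Matrix.cons_val', _root_.Matrix.cons_val_zero, _root_.Matrix.cons_val_fin_one, _root_.Matrix.cons_val_one, _root_.mul_neg, _root_.mul_one, _root_.neg_mul, _root_.Matrix.cons_val, _root_.MulZeroClass.mul_zero, _root_.MulZeroClass.zero_mul, _root_.add_zero, _root_.zero_add, _root_.Int.cast_add, _root_.Int.cast_sub, _root_.Int.cast_mul, _root_.Int.cast_ofNat]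
  ring

theorem bz_nd (h5 : 5 ≤ s) : (bz s).Nondegenerate := by
  apply LinearMap.BilinForm.nondegenerate_toBilin'_of_det_ne_zero'
  rw [det_gm]
  intro h
  have h1 : ((4 : ℕ) : ZMod s) = 0 := by exact_mod_cast h
  rw [ZMod.natCast_eq_zero_iff] at h1
  have := Nat.le_of_dvd (by norm_num) h1
  omega

theorem rd_surj (v : Fin 4 → ZMod s) : ∃ x : Fin 4 → ℤ, rd s x = v :=
  ⟨fun i => ((v i).val : ℤ), by
    funext i
    show (((v i).val : ℤ) : ZMod s) = v i
    rw [Int.cast_natCast, ZMod.natCast_zmod_val]⟩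

/-- extension of a functional -/
def ext1 (t : (Fin 4 → ℤ) →+ ZMod s) : (Fin 4 → ZMod s) →ₗ[ZMod s] ZMod s where
  toFun v := ∑ k, v k * t (Pi.single k 1)
  map_add' v w := by simp only [Pi.add_apply, add_mul, Finset.sum_add_distrib]
  map_smul' c v := by simp only [Pi.smul_apply, smul_eq_mul, RingHom.id_apply, Finset.mul_sum, mul_assoc]

theorem ext1_rd (t : (Fin 4 → ℤ) →+ ZMod s) (x : Fin 4 → ℤ) : ext1 t (rd s x) = t x := by
  have h1 : x = ∑ k, x k • (Pi.single k 1 : Fin 4 → ℤ) := by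
    funext i
    rw [Finset.sum_apply, Finset.sum_eq_single i]
    · simp
    · intro b _ hb
      simp [hb.symm]
    · intro hi
      exact absurd (Finset.mem_univ i) hi
  conv_rhs => rw [h1, map_sum]
  show ∑ k, ((x k : ℤ) : ZMod s) * t (Pi.single k 1) = _
  refine Finset.sum_congr rfl fun k _ => ?_
  rw [map_zsmul, zsmul_eq_mul]

/-- the vector of a functional -/
theorem exists_vec (h5 : 5 ≤ s) (t : (Fin 4 → ℤ) →+ ZMod s) : ∃ τ : Fin 4 → ℤ, ∀ x, ((bf τ x : ℤ) : ZMod s) = t x := by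
  obtain ⟨τ, hτ⟩ := rd_surj (((bz s).toDual (bz_nd h5)).symm (ext1 t))
  refine ⟨τ, fun x => ?_⟩
  rw [← bz_rd, hτ, ← LinearMap.BilinForm.toDual_def ((bz_nd h5 :)), LinearEquiv.apply_symm_apply, ext1_rd]

/-- **Isotropy.** -/
theorem iso_ker (h5 : 5 ≤ s) {W : Type*} [Group W] (hp : IsType chevF4 4 CoxeterMatrix.F₄)
    (cs : CoxeterSystem CoxeterMatrix.F₄ W) {j : ZMod s} (hj : j ^ 2 = -1) {t : Fin 2 → ((Fin 4 → ℤ) →+ ZMod s)}
    (hind : ∀ c : Fin 2 → ZMod s, (∀ x, ∑ i, c i * t i x = 0) → c = 0) {w : W}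
    (hw : ∀ i x, t i (rep cs hp.isCartan w x) = j * t i x) {x y : Fin 4 → ℤ} (hx : ∀ i, t i x = 0)
    (hy : ∀ i, t i y = 0) : ((bf x y : ℤ) : ZMod s) = 0 := by
  choose τ hτ using fun i => exists_vec h5 (t i)
  have h2 : (2 : ZMod s) ≠ 0 := by
    intro h
    have h1 : ((2 : ℕ) : ZMod s) = 0 := by exact_mod_cast h
    rw [ZMod.natCast_eq_zero_iff] at h1
    have := Nat.le_of_dvd (by norm_num) h1
    omega
  have hinv : ∀ i x, t i (rep cs hp.isCartan w⁻¹ x) = -j * t i x := by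
    intro i x
    have h1 := hw i (rep cs hp.isCartan w⁻¹ x)
    rw [← rep_mul_apply, mul_inv_cancel, map_one, Module.End.one_apply] at h1
    rw [h1, ← mul_assoc]
    have h3 : -j * j = 1 := by
      have : -j * j = -(j ^ 2) := by ring
      rw [this, hj, neg_neg]
    rw [h3, one_mul]
  -- the vectors are isotropic
  have hiso : ∀ i k, ((bf (τ i) (τ k) : ℤ) : ZMod s) = 0 := by
    intro i k
    have h3 : ((bf (τ i) (rep cs hp.isCartan w (τ k)) : ℤ) : ZMod s) = j * t i (τ k) := by rw [hτ, hw]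
    have h4 : ((bf (τ i) (rep cs hp.isCartan w (τ k)) : ℤ) : ZMod s) = -j * t k (τ i) := by
      have h5 : bf (τ i) (rep cs hp.isCartan w (τ k)) = bf (τ k) (rep cs hp.isCartan w⁻¹ (τ i)) := by
        rw [← bf_rep hp cs w⁻¹ (τ i), ← rep_mul_apply, inv_mul_cancel, map_one, Module.End.one_apply, bf_comm]
      rw [h5, hτ, hinv]
    have h6 : t k (τ i) = t i (τ k) := by rw [← hτ, ← hτ, bf_comm]
    have h7 : j * (2 * t i (τ k)) = 0 := by
      rw [h3, h6] at h4
      linear_combination h4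
    have hj0 : j ≠ 0 := by
      rintro rfl
      rw [zero_pow (by norm_num)] at hj
      have h8 : (1 : ZMod s) = 0 := by linear_combination hj
      exact one_ne_zero h8
    have h8 := (mul_eq_zero.1 ((mul_eq_zero.1 h7).resolve_left hj0)).resolve_left h2
    rw [hτ, h8]
  -- the span
  set Wd : Submodule (ZMod s) (Fin 4 → ZMod s) := Submodule.span (ZMod s) (Set.range fun i => rd s (τ i)) with hWd
  have hle : Wd ≤ (bz s).orthogonal Wd := by
    rw [hWd, Submodule.span_le]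
    rintro _ ⟨k, rfl⟩
    rw [SetLike.mem_coe, LinearMap.BilinForm.mem_orthogonal_iff]
    intro n hn
    induction hn using Submodule.span_induction with
    | mem n hn =>
      obtain ⟨i, rfl⟩ := hn
      show bz s (rd s (τ i)) (rd s (τ k)) = 0
      rw [bz_rd, hiso]
    | zero =>
      show bz s 0 _ = 0
      rw [map_zero, LinearMap.zero_apply]
    | add a b _ _ ha hb =>
      show bz s (a + b) _ = 0
      rw [map_add, LinearMap.add_apply]
      have e1 : bz s a (rd s (τ k)) = 0 := ha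
      have e2 : bz s b (rd s (τ k)) = 0 := hb
      rw [e1, e2, add_zero]
    | smul c a _ ha =>
      show bz s (c • a) _ = 0
      have e1 : bz s a (rd s (τ k)) = 0 := ha
      rw [map_smul, LinearMap.smul_apply, e1, smul_zero]
  have hli : LinearIndependent (ZMod s) fun i => rd s (τ i) := by
    rw [Fintype.linearIndependent_iff]
    intro c hc
    have h3 : c = 0 := by
      apply hind
      intro x
      have h4 : bz s (∑ i, c i • rd s (τ i)) (rd s x) = 0 := by rw [hc, map_zero, LinearMap.zero_apply]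
      rw [map_sum, LinearMap.sum_apply] at h4
      rw [← h4]
      refine Finset.sum_congr rfl fun i _ => ?_
      rw [map_smul, LinearMap.smul_apply, bz_rd, hτ, smul_eq_mul]
    intro i
    rw [h3]; rfl
  have hfr : Module.finrank (ZMod s) Wd = 2 := by
    rw [hWd, finrank_span_eq_card hli]
    rfl
  have hfo : Module.finrank (ZMod s) ((bz s).orthogonal Wd) = 2 := by
    rw [LinearMap.BilinForm.finrank_orthogonal ((bz_nd h5 :)), hfr, Module.finrank_fin_fun]
  have heq : Wd = (bz s).orthogonal Wd := Submodule.eq_of_le_of_finrank_eq hle (by rw [hfr, hfo])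
  -- the kernel
  have hK : ∀ x : Fin 4 → ℤ, (∀ i, t i x = 0) → rd s x ∈ (bz s).orthogonal Wd := by
    intro x hx
    rw [LinearMap.BilinForm.mem_orthogonal_iff]
    intro n hn
    rw [hWd] at hn
    induction hn using Submodule.span_induction with
    | mem n hn =>
      obtain ⟨i, rfl⟩ := hn
      show bz s (rd s (τ i)) (rd s x) = 0
      rw [bz_rd, hτ, hx]
    | zero =>
      show bz s 0 _ = 0
      rw [map_zero, LinearMap.zero_apply]
    | add a b _ _ ha hb =>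
      show bz s (a + b) _ = 0
      rw [map_add, LinearMap.add_apply]
      have e1 : bz s a (rd s x) = 0 := ha
      have e2 : bz s b (rd s x) = 0 := hb
      rw [e1, e2, add_zero]
    | smul c a _ ha =>
      show bz s (c • a) _ = 0
      have e1 : bz s a (rd s x) = 0 := ha
      rw [map_smul, LinearMap.smul_apply, e1, smul_zero]
  have h6 := hK y hy
  have h7 := hK x hx
  rw [← heq] at h7
  rw [LinearMap.BilinForm.mem_orthogonal_iff] at h6
  have h8 : bz s (rd s x) (rd s y) = 0 := h6 _ h7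
  rwa [bz_rd] at h8

end Lin

end Cfsg.Agent.H824.Wei
end

-- part: H824/Wei/F4Conf
section
/-!
# The configuration does not exist (helper824)
-/

set_option autoImplicit false

namespace Cfsg.Agent.H824.Wei

open CoxeterSystem Cfsg Cfsg.Lie Cfsg.Lie.ChevalleyDatum
open Cfsg.Agent.ChevalleyStructure Cfsg.Agent.ChevalleyStructure.CoxeterGeom
  Cfsg.Agent.ChevalleyStructure.CoxeterGeomTypes
open Cfsg.Agent.Tits.Roots Cfsg.Agent.Nodes.RGDChev

section Conf

variable {s : ℕ} [hs : Fact s.Prime] {W : Type*} [Group W]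

theorem two_ne (h5 : 5 ≤ s) : (2 : ZMod s) ≠ 0 := by
  intro h
  have h1 : ((2 : ℕ) : ZMod s) = 0 := by exact_mod_cast h
  rw [ZMod.natCast_eq_zero_iff] at h1
  have := Nat.le_of_dvd (by norm_num) h1
  omega

/-- opposite roots -/
theorem opp (h5 : 5 ≤ s) (hp : IsType chevF4 4 CoxeterMatrix.F₄) (cs : CoxeterSystem CoxeterMatrix.F₄ W)
    {p r : (Fin 4 → ℤ) →+ ZMod s}
    (iso : ∀ x y, p x = 0 → r x = 0 → p y = 0 → r y = 0 → ((bf x y : ℤ) : ZMod s) = 0) {x y : Fin 4 → ℤ}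
    (hx : IsRoot cs hp.isCartan x) (hy : IsRoot cs hp.isCartan y) (hN : bf x x = bf y y) (h1 : p x + p y = 0)
    (h2 : r x + r y = 0) : y = -x := by
  apply neg_of hp cs hs.out h5 hx hy hN
  have h3 := iso (x + y) (x + y) (by rw [map_add, h1]) (by rw [map_add, h2]) (by rw [map_add, h1]) (by rw [map_add, h2])
  have h4 : bf (x + y) (x + y) = 2 * (bf x x + bf x y) := by
    rw [bf_add_left, bf_add_right, bf_add_right, bf_comm y x, ← hN]; ring
  rw [h4, Int.cast_mul] at h3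
  exact (mul_eq_zero.1 h3).resolve_left (by exact_mod_cast two_ne h5)

theorem rep_inv_neg (hp : IsType chevF4 4 CoxeterMatrix.F₄) (cs : CoxeterSystem CoxeterMatrix.F₄ W) {w : W}
    {x : Fin 4 → ℤ} (h : rep cs hp.isCartan w x = -x) : rep cs hp.isCartan w⁻¹ x = -x := by
  have h1 : rep cs hp.isCartan w⁻¹ (rep cs hp.isCartan w x) = x := by
    rw [← rep_mul_apply, inv_mul_cancel, map_one, Module.End.one_apply]
  rw [h, map_neg] at h1
  exact neg_eq_iff_eq_neg.1 h1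

/-- **One half.** -/
theorem half (h5 : 5 ≤ s) (hp : IsType chevF4 4 CoxeterMatrix.F₄) (cs : CoxeterSystem CoxeterMatrix.F₄ W)
    {j : ZMod s} (hj : j ^ 2 = -1) {p r : (Fin 4 → ℤ) →+ ZMod s}
    (iso : ∀ x y, p x = 0 → r x = 0 → p y = 0 → r y = 0 → ((bf x y : ℤ) : ZMod s) = 0) {w₀ w : W}
    (h0p : ∀ x, p (rep cs hp.isCartan w₀ x) = j * p x) (h0r : ∀ x, r (rep cs hp.isCartan w₀ x) = j * r x)
    (h1p : ∀ x, p (rep cs hp.isCartan w x) = p x) (h1r : ∀ x, r (rep cs hp.isCartan w x) = - p x - r x)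
    {a : Fin 4 → ℤ} (ha : IsRoot cs hp.isCartan a) (hpa : p a = 0) {b : Fin 4 → ℤ} (hb : 2 * r b + p b + r a = 0) :
    rep cs hp.isCartan w₀ (rep cs hp.isCartan w₀ a) = -a ∧ bf a (rep cs hp.isCartan w₀ a) = 0 ∧
    2 * ((bf b a : ℤ) : ZMod s) + 2 * j * ((bf b (rep cs hp.isCartan w₀ a) : ℤ) : ZMod s) = - ((bf a a : ℤ) : ZMod s) := by
  set c := rep cs hp.isCartan w₀ a with hc
  have hcr : IsRoot cs hp.isCartan c := ha.act w₀
  have hcc : bf c c = bf a a := bf_rep hp cs w₀ a a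
  have hpc : p c = 0 := by rw [hc, h0p, hpa, mul_zero]
  have hjj : j * j = -1 := by rw [← hj, sq]
  -- `w a = -a`
  have e1 : rep cs hp.isCartan w a = -a :=
    opp h5 hp cs iso ha (ha.act w) (bf_rep hp cs w a a).symm (by rw [h1p, hpa, add_zero]) (by rw [h1r, hpa]; ring)
  have e1' : rep cs hp.isCartan w⁻¹ a = -a := rep_inv_neg hp cs e1
  have hinvp : ∀ x, p (rep cs hp.isCartan w⁻¹ x) = p x := by
    intro x
    rw [← h1p (rep cs hp.isCartan w⁻¹ x), ← rep_mul_apply, mul_inv_cancel, map_one, Module.End.one_apply]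
  have hinvr : ∀ x, r (rep cs hp.isCartan w⁻¹ x) = - p x - r x := by
    intro x
    have h1 := h1r (rep cs hp.isCartan w⁻¹ x)
    rw [← rep_mul_apply, mul_inv_cancel, map_one, Module.End.one_apply, hinvp] at h1
    rw [h1]; ring
  have e2 : rep cs hp.isCartan w⁻¹ c = -c :=
    opp h5 hp cs iso hcr (hcr.act w⁻¹) (bf_rep hp cs w⁻¹ c c).symm (by rw [hinvp, hpc, add_zero])
      (by rw [hinvr, hpc]; ring)
  have e3 : rep cs hp.isCartan w₀ c = -a :=
    opp h5 hp cs iso ha (hcr.act w₀) (by rw [bf_rep hp cs, hcc]) (by rw [h0p, hpc, hpa, mul_zero, add_zero])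
      (by rw [h0r, hc, h0r, ← mul_assoc, hjj]; ring)
  have e4 : bf a c = 0 := by
    have h1 := bf_rep hp cs w₀ a c
    rw [← hc, e3, bf_neg_right, bf_comm c a] at h1
    omega
  refine ⟨e3, e4, ?_⟩
  -- the functional
  have hw : ∀ x y, rep cs hp.isCartan w⁻¹ y = -y → bf (rep cs hp.isCartan w x) y = - bf x y := by
    intro x y h
    rw [← bf_rep hp cs w⁻¹ (rep cs hp.isCartan w x) y, ← rep_mul_apply, inv_mul_cancel, map_one, Module.End.one_apply, h,
      bf_neg_right]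
  -- the isotropic vector
  set v : Fin 4 → ℤ := a + ((j.val : ℕ) : ℤ) • c with hv
  have hjv : (((j.val : ℕ) : ℤ) : ZMod s) = j := by rw [Int.cast_natCast, ZMod.natCast_zmod_val]
  have hpv : p v = 0 := by rw [hv, map_add, map_zsmul, hpa, hpc, smul_zero, add_zero]
  have hrv : r v = 0 := by
    rw [hv, map_add, map_zsmul, zsmul_eq_mul, hjv, hc, h0r, ← mul_assoc, hjj]
    ring
  have hbv : ∀ z, bf z v = bf z a + ((j.val : ℕ) : ℤ) * bf z c := fun z => by rw [hv, bf_add_right, bf_smul_right]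
  have h6 := iso (b + -(rep cs hp.isCartan w b) + a) v
    (by rw [map_add, map_add, map_neg, h1p, hpa]; ring)
    (by
      rw [map_add, map_add, map_neg, h1r]
      linear_combination hb) hpv hrv
  rw [hbv, bf_add_left, bf_add_left, bf_add_left, bf_add_left, bf_neg_left, bf_neg_left, hw b a e1', hw b c e2, e4] at h6
  push_cast at h6
  rw [ZMod.natCast_zmod_val] at h6
  linear_combination h6

/-- **No configuration.** -/
theorem no_config (h5 : 5 ≤ s) (hp : IsType chevF4 4 CoxeterMatrix.F₄) (cs : CoxeterSystem CoxeterMatrix.F₄ W)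
    {j : ZMod s} (hj : j ^ 2 = -1) {t : Fin 2 → ((Fin 4 → ℤ) →+ ZMod s)}
    (hind : ∀ c : Fin 2 → ZMod s, (∀ x, ∑ i, c i * t i x = 0) → c = 0) {w₀ w₁ w₂ : W}
    (h0 : ∀ i x, t i (rep cs hp.isCartan w₀ x) = j * t i x)
    (h10 : ∀ x, t 0 (rep cs hp.isCartan w₁ x) = t 0 x) (h11 : ∀ x, t 1 (rep cs hp.isCartan w₁ x) = - t 0 x - t 1 x)
    (h21 : ∀ x, t 1 (rep cs hp.isCartan w₂ x) = t 1 x) (h20 : ∀ x, t 0 (rep cs hp.isCartan w₂ x) = - t 0 x - t 1 x)
    {a : Fin 4 → ℤ} (ha : IsRoot cs hp.isCartan a) (ha0 : t 0 a = 0) : False := by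
  have iso : ∀ x y, t 0 x = 0 → t 1 x = 0 → t 0 y = 0 → t 1 y = 0 → ((bf x y : ℤ) : ZMod s) = 0 := by
    intro x y h1 h2 h3 h4
    exact iso_ker h5 hp cs hj hind h0 (fun i => by fin_cases i <;> assumption) (fun i => by fin_cases i <;> assumption)
  have iso' : ∀ x y, t 1 x = 0 → t 0 x = 0 → t 1 y = 0 → t 0 y = 0 → ((bf x y : ℤ) : ZMod s) = 0 :=
    fun x y h1 h2 h3 h4 => iso x y h2 h1 h4 h3
  set b : Fin 4 → ℤ := rep cs hp.isCartan w₁ (rep cs hp.isCartan w₂ a) with hb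
  have hbr : IsRoot cs hp.isCartan b := (ha.act w₂).act w₁
  have hbb : bf b b = bf a a := by rw [hb, bf_rep hp cs, bf_rep hp cs]
  have hb0 : t 0 b = - t 1 a := by rw [hb, h10, h20, ha0]; ring
  have hb1 : t 1 b = 0 := by rw [hb, h11, h20, h21, ha0]; ring
  obtain ⟨e1, e2, e3⟩ := half h5 hp cs hj iso (h0 0) (h0 1) h10 h11 ha ha0 (b := b) (by rw [hb0, hb1]; ring)
  obtain ⟨f1, f2, f3⟩ := half h5 hp cs hj iso' (w₀ := w₀) (w := w₂) (h0 1) (h0 0) h21 (fun x => by rw [h20]; ring) hbr hb1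
    (b := a) (by rw [hb0, ha0]; ring)
  have h6 : bf a (rep cs hp.isCartan w₀ b) = - bf b (rep cs hp.isCartan w₀ a) := by
    rw [← bf_rep hp cs w₀ a (rep cs hp.isCartan w₀ b), f1, bf_neg_right, bf_comm]
  rw [h6, hbb, bf_comm a b] at f3
  push_cast at f3
  have h2 := two_ne (s := s) h5
  have h4 : ((2 * bf b a + bf a a : ℤ) : ZMod s) = 0 := by
    push_cast
    apply mul_left_cancel₀ h2
    linear_combination e3 + f3
  have h7 : ((bf b (rep cs hp.isCartan w₀ a) : ℤ) : ZMod s) = 0 := by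
    have hj0 : j ≠ 0 := by
      rintro rfl
      rw [zero_pow (by norm_num)] at hj
      have h8 : (1 : ZMod s) = 0 := by linear_combination hj
      exact one_ne_zero h8
    apply mul_left_cancel₀ hj0
    apply mul_left_cancel₀ h2
    apply mul_left_cancel₀ h2
    linear_combination e3 - f3
  rw [bf_comm b a] at h4
  exact no_orth hp cs hs.out h5 ha hbr (ha.act w₀) hbb.symm (bf_rep hp cs w₀ a a) h4 e2 h7

end Conf

end Cfsg.Agent.H824.Wei
end

-- part: H824/Wei/F4Tor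
section
/-!
# `F₄(q)` has no `(ℤ/s)² : S₃` for a primitive prime `s` of `q^4 - 1` (helper824)
-/

set_option autoImplicit false

namespace Cfsg.Agent.H824.Wei

open CoxeterSystem Cfsg Cfsg.Lie Cfsg.Lie.ChevalleyDatum
open Cfsg.Agent.ChevalleyStructure Cfsg.Agent.ChevalleyStructure.Elts Cfsg.Agent.ChevalleyStructure.CoxeterGeom
  Cfsg.Agent.ChevalleyStructure.CoxeterGeomTypes Cfsg.Agent.ChevalleyStructure.NPerm
open Cfsg.Agent.Tits.Roots Cfsg.Agent.Tits.Core Cfsg.Agent.Nodes Cfsg.Agent.Nodes.Reps Cfsg.Agent.Nodes.BNOf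
  Cfsg.Agent.Nodes.RGDChev Cfsg.Agent.Nodes.Bruhat Cfsg.Agent.Nodes.SubComb Cfsg.Agent.Nodes.Coroot
open Cfsg.Agent.KFacts.RgdField Cfsg.Agent.KFacts.RgdChevCoord Cfsg.Agent.BpExc.TorCent Cfsg.Agent.BpExc.TorChev
open Cfsg.Agent.GpExc.Field Cfsg.Agent.BpExc.Tow Cfsg.Agent.BpExc.TowChev Cfsg.Agent.BpExc.Fr
  Cfsg.Agent.BpExc.LangFr Cfsg.Agent.LangThm Cfsg.Agent.BpExc Cfsg.Agent.H129.TorusChar Cfsg.Agent.H129.TorusCent
  Cfsg.Agent.H129.TorusUntw Cfsg.Agent.ChevStructure.FieldMap Cfsg.Agent.H496.Gen.PairSet Cfsg.Agent.H129.StabGen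

universe u

section Act

variable {D : ChevalleyDatum} {l : ℕ} {M : CoxeterMatrix (Fin l)} (hp : IsType D l M) {k : Type u} [Field k]
  {W : Type*} [Group W] (cs : CoxeterSystem M W)

/-- **Families of torus elements conjugate in the group: the Weyl group element.** -/
theorem exists_act [Finite W] (hk : LocFin k) (p : ℕ) [Fact p.Prime] [CharP k p] {ι : Type*} [Finite ι]
    {s t : ι → ↥(D.group k)} (hs : ∀ i, s i ∈ TT D k) (ht : ∀ i, t i ∈ TT D k) {c : ↥(D.group k)}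
    (e : ∀ i, c * s i = t i * c) : ∃ w : W, ∀ i x, cX hp (t i) (rep cs hp.isCartan w x) = cX hp (s i) x := by
  have H := tow hp cs hk p
  have C := coordsL hp cs hk p
  rw [← TL_eq hp hk, ← XL_eq hp hk] at C
  have hs' : ∀ i, s i ∈ TL (Tj hp (k := k)) := fun i => by rw [TL_eq hp hk]; exact hs i
  have ht' : ∀ i, t i ∈ TL (Tj hp (k := k)) := fun i => by rw [TL_eq hp hk]; exact ht i
  have hcG : c ∈ GG cs hp.isCartan (TL (Tj hp (k := k))) (XL (Xj hp)) := by
    rw [GG_eq_top hp cs hk]; exact Subgroup.mem_top c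
  obtain ⟨m, -, w, n, hn, hnt, -⟩ := exists_form_set H C hs' ht' hcG e
  refine ⟨w, fun i x => ?_⟩
  refine ((isMC_cX hp (ht i)).comp (rep cs hp.isCartan w).toAddMonoidHom).ext (isMC_cX hp (hs i)) (fun j => ?_) x
  show cX hp (t i) (rep cs hp.isCartan w (sr j)) = _
  have h3 := C.chi_rp H.nsys hn (isRoot_sr cs hp.isCartan j) (hs' i)
  have h4 : n * s i * n⁻¹ = t i := by rw [hnt]; group
  rw [h4] at h3
  rw [cX_root hp cs (ht i) ((isRoot_sr cs hp.isCartan j).act w), cX_sr]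
  exact h3

/-- **Discrete logarithms of the characters of a torus element of order dividing `s`.** -/
theorem exists_log {s : ℕ} {ζ : k} (hζ : IsPrimitiveRoot ζ s) (hs0 : s ≠ 0) {t : ↥(D.group k)} (ht : t ∈ TT D k)
    (hts : t ^ s = 1) : ∃ L : (Fin l → ℤ) →+ ℤ, ∀ x, cX hp t x = ζ ^ L x := by
  have h1 : ∀ i, ∃ a : ℕ, ζ ^ a = cX hp t (sr i) := by
    intro i
    have h2 : cX hp t (sr i) ^ s = 1 := by rw [← cX_pow hp ht, hts, cX_one]
    have : NeZero s := ⟨hs0⟩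
    obtain ⟨a, -, ha⟩ := hζ.eq_pow_of_pow_eq_one h2
    exact ⟨a, ha⟩
  choose a ha using h1
  refine ⟨AddMonoidHom.mk' (fun x => ∑ i, (a i : ℤ) * x i) (fun x y => by
    simp only [Pi.add_apply, mul_add, Finset.sum_add_distrib]), fun x => ?_⟩
  show cX hp t x = ζ ^ (∑ i, (a i : ℤ) * x i)
  have hz0 : ζ ≠ 0 := hζ.ne_zero hs0
  rw [cX]
  have h3 : ∀ (S : Finset (Fin l)), ∏ i ∈ S, ch hp (sr i) t ^ x i = ζ ^ (∑ i ∈ S, (a i : ℤ) * x i) := by
    classical
    intro S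
    induction S using Finset.induction_on with
    | empty => simp
    | insert i S hi ih =>
      rw [Finset.prod_insert hi, Finset.sum_insert hi, zpow_add₀ hz0, ih, ← cX_sr, ← ha, zpow_mul, zpow_natCast]
  exact h3 _

theorem zpow_eq_iff {s : ℕ} {ζ : k} (hζ : IsPrimitiveRoot ζ s) (hs0 : s ≠ 0) {m n : ℤ} :
    ζ ^ m = ζ ^ n ↔ (m : ZMod s) = (n : ZMod s) := by
  have hz0 : ζ ≠ 0 := hζ.ne_zero hs0
  rw [ZMod.intCast_eq_intCast_iff_dvd_sub, ← hζ.zpow_eq_one_iff_dvd, zpow_sub₀ hz0, div_eq_one_iff_eq (zpow_ne_zero _ hz0)]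
  exact eq_comm

end Act

/-- the abelian group generated by two commuting elements of order `s` -/
theorem isPGroup_pair {G : Type*} [Group G] {s : ℕ} [Fact s.Prime] {x y : G} (hx : x ^ s = 1) (hy : y ^ s = 1)
    (hxy : x * y = y * x) : IsPGroup s ↥(Subgroup.zpowers x ⊔ Subgroup.zpowers y) := by
  have key : ∀ z : G, z ^ s = 1 → IsPGroup s ↥(Subgroup.zpowers z) := by
    intro z hz
    rintro ⟨_, ⟨n, rfl⟩⟩
    refine ⟨1, Subtype.ext ?_⟩
    show (z ^ n) ^ s ^ 1 = 1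
    rw [pow_one, ← zpow_natCast, ← zpow_mul, mul_comm, zpow_mul, zpow_natCast, hz, one_zpow]
  refine (key x hx).to_sup_of_normal_right' (key y hy) ?_
  rw [Subgroup.zpowers_le, Subgroup.mem_normalizer_iff]
  have hc : ∀ n : ℤ, x * y ^ n * x⁻¹ = y ^ n := by
    intro n
    have h1 : Commute x y := hxy
    rw [(h1.zpow_right n).eq]
    group
  intro z
  constructor
  · rintro ⟨n, rfl⟩
    exact ⟨n, (hc n).symm⟩
  · rintro ⟨n, hn⟩
    refine ⟨n, ?_⟩
    have h2 : x * z * x⁻¹ = x * y ^ n * x⁻¹ := by rw [hc]; exact hn.symm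
    exact (mul_left_cancel (mul_right_cancel h2)).symm

section Main

theorem ndvd_W {s : ℕ} (hs : s.Prime) (h5 : 5 ≤ s) : ¬ s ∣ Nat.card CoxeterMatrix.F₄.Group := by
  rw [Cfsg.Agent.H129.CycT.cardW_F4]
  intro h
  have h1 : s ∣ 2 ^ 7 * 3 ^ 2 := h
  rcases hs.dvd_mul.1 h1 with h2 | h2
  · have := Nat.le_of_dvd (by norm_num) (hs.dvd_of_dvd_pow h2)
    omega
  · have := Nat.le_of_dvd (by norm_num) (hs.dvd_of_dvd_pow h2)
    omega

/-- **No `(ℤ/s)² : S₃`.** -/
theorem no_tor {F : Type u} [Field F] [Fintype F] {q s : ℕ} (hq : Fintype.card F = q) (hs : s.Prime) (h5 : 5 ≤ s)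
    (hsq : s ∣ q ^ 2 + 1) {e : Fin 2 → ↥(chevF4.group F)} (hes : ∀ i, e i ^ s = 1) (hcomm : e 0 * e 1 = e 1 * e 0)
    (hind : ∀ c : Fin 2 → ℕ, e 0 ^ c 0 * e 1 ^ c 1 = 1 → ∀ i, s ∣ c i) {n₁ n₂ : ↥(chevF4.group F)}
    (h1 : n₁ * e 0 = e 0 * n₁) (h2 : n₁ * e 1 = (e 0 * e 1)⁻¹ * n₁) (h3 : n₂ * e 1 = e 1 * n₂)
    (h4 : n₂ * e 0 = (e 0 * e 1)⁻¹ * n₂) : False := by
  have hp : IsType chevF4 4 CoxeterMatrix.F₄ := Cfsg.Agent.H129.CycT.typeF4
  let cs := CoxeterMatrix.F₄.toCoxeterSystem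
  have hW : Finite CoxeterMatrix.F₄.Group := finite_W hp cs
  have hsF : Fact s.Prime := ⟨hs⟩
  obtain ⟨p, f, hpF, hpc, hpk, he, rfl, hk⟩ := _root_.Cfsg.Agent.H129.TorusUntw.exists_closure hq
  set k := AlgebraicClosure F with hkdef
  have hpp : p.Prime := hpF.out
  have hsp : s ≠ p := by
    rintro rfl
    have h6 : s ∣ (s ^ f) ^ 2 := (dvd_pow_self s he.ne').trans (dvd_pow_self _ (by norm_num))
    exact hs.one_lt.ne' (Nat.dvd_one.1 ((Nat.dvd_add_right h6).1 hsq))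
  have hsk : NeZero (s : k) := ⟨by
    rw [Ne, CharP.cast_eq_zero_iff k p]
    exact fun h => hsp ((Nat.prime_dvd_prime_iff_eq hpp hs).1 h).symm⟩
  obtain ⟨ζ, hζ⟩ := HasEnoughRootsOfUnity.exists_primitiveRoot k s
  set E := emb hp.inList (algebraMap F k) with hE
  have hEi : Function.Injective E := emb_injective hp.inList _
  -- into the torus
  have hfin : Finite ↥(chevF4.group F) := inferInstance
  set K : Subgroup ↥(chevF4.group F) := Subgroup.zpowers (e 0) ⊔ Subgroup.zpowers (e 1) with hK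
  have hfK : Finite ↥(K.map E) := Finite.of_surjective (E.subgroupMap K) (E.subgroupMap_surjective K)
  have hQ : IsPGroup s ↥(K.map E) := (isPGroup_pair (hes 0) (hes 1) hcomm).map E
  obtain ⟨g, hg⟩ := Cfsg.Agent.H795.TorSub.exists_toral_of_not_dvd hp p hk hs hsp (ndvd_W hs h5) hQ
  set ε : Fin 2 → ↥(chevF4.group k) := fun i => g * E (e i) * g⁻¹ with hε
  have hεT : ∀ i, ε i ∈ TT chevF4 k := by
    intro i
    refine hg _ ⟨e i, ?_, rfl⟩
    fin_cases i
    · exact Subgroup.mem_sup_left (Subgroup.mem_zpowers _)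
    · exact Subgroup.mem_sup_right (Subgroup.mem_zpowers _)
  have hεs : ∀ i, ε i ^ s = 1 := by
    intro i
    show (g * E (e i) * g⁻¹) ^ s = 1
    rw [conj_pow, ← map_pow, hes, map_one, mul_one, mul_inv_cancel]
  choose L hL using fun i => exists_log hp hζ hs.ne_zero (hεT i) (hεs i)
  set t : Fin 2 → ((Fin 4 → ℤ) →+ ZMod s) := fun i => (Int.castAddHom (ZMod s)).comp (L i) with ht
  have htL : ∀ i x, t i x = ((L i x : ℤ) : ZMod s) := fun i x => rfl
  have hone : ∀ i x, t i x = 0 ↔ cX hp (ε i) x = 1 := by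
    intro i x
    rw [hL, htL, ← zpow_zero ζ, zpow_eq_iff hζ hs.ne_zero, Int.cast_zero]
  -- the Frobenius automorphism
  have hζ0 : ζ ≠ 0 := hζ.ne_zero hs.ne_zero
  have F0 := fr_phi (p := p) (e := f) (k := k) hp cs
  have hφE : ∀ x, phi chevF4 k p f (E x) = E x := fun x => phi_emb hp _ hq x
  have hφT : ∀ i, phi chevF4 k p f (ε i) ∈ TT chevF4 k := fun i => (F0.tor _).2 (hεT i)
  obtain ⟨w₀, hw₀⟩ := exists_act hp cs hk p hεT hφT (c := phi chevF4 k p f g * g⁻¹) (fun i => by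
    show _ * (g * E (e i) * g⁻¹) = phi chevF4 k p f (g * E (e i) * g⁻¹) * _
    simp only [map_mul, map_mul, map_inv, hφE]
    group)
  have hq1 : ((p ^ f : ℕ) : ZMod s) ^ 2 = -1 := by
    have h6 : (((p ^ f) ^ 2 + 1 : ℕ) : ZMod s) = 0 := (ZMod.natCast_eq_zero_iff _ _).2 hsq
    push_cast at h6 ⊢
    linear_combination h6
  have h0 : ∀ i x, t i (rep cs hp.isCartan w₀ x) = -((p ^ f : ℕ) : ZMod s) * t i x := by
    intro i x
    have h6 := hw₀ i x
    have h7 := cX_sigma hp cs isFrob_phi F0 (hεT i) (rep cs hp.isCartan w₀ x)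
    have h8 : cX hp (ε i) (rep cs hp.isCartan w₀ x) ^ p ^ f = cX hp (ε i) x := by
      rw [← h6, ← h7]
      rfl
    rw [hL, hL, ← zpow_natCast, ← zpow_mul, zpow_eq_iff hζ hs.ne_zero, Int.cast_mul, Int.cast_natCast] at h8
    rw [htL, htL, ← h8]
    linear_combination ((L i (rep cs hp.isCartan w₀ x) : ℤ) : ZMod s) * hq1
  -- the two reflections
  set ε₃ : ↥(chevF4.group k) := (ε 0 * ε 1)⁻¹ with hε₃
  have hε₃T : ε₃ ∈ TT chevF4 k := inv_mem (mul_mem (hεT 0) (hεT 1))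
  have hc₃ : ∀ x, cX hp ε₃ x = ζ ^ (-(L 0 x) - L 1 x) := by
    intro x
    have h6 := cX_mul hp hε₃T (mul_mem (hεT 0) (hεT 1)) x
    rw [hε₃, inv_mul_cancel, cX_one, cX_mul hp (hεT 0) (hεT 1), hL, hL, ← zpow_add₀ hζ0] at h6
    rw [← hε₃] at h6
    have h7 : ζ ^ (L 0 x + L 1 x) ≠ 0 := zpow_ne_zero _ hζ0
    apply mul_right_cancel₀ h7
    rw [← h6, ← zpow_add₀ hζ0]
    have h8 : -(L 0 x) - L 1 x + (L 0 x + L 1 x) = 0 := by ring
    rw [h8, zpow_zero]
  have hconj : ∀ {n a b : ↥(chevF4.group F)}, n * a = b * n → (g * E n * g⁻¹) * (g * E a * g⁻¹) =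
      (g * E b * g⁻¹) * (g * E n * g⁻¹) := by
    intro n a b h
    have h6 : E n * E a = E b * E n := by rw [← map_mul, h, map_mul]
    calc (g * E n * g⁻¹) * (g * E a * g⁻¹) = g * (E n * E a) * g⁻¹ := by group
      _ = g * (E b * E n) * g⁻¹ := by rw [h6]
      _ = _ := by group
  have hε₃' : g * E (e 0 * e 1)⁻¹ * g⁻¹ = ε₃ := by
    show _ = ((g * E (e 0) * g⁻¹) * (g * E (e 1) * g⁻¹))⁻¹
    rw [map_inv, map_mul]
    group
  obtain ⟨w₁, hw₁⟩ := exists_act hp cs hk p (s := ε) (t := ![ε 0, ε₃]) hεT (fun i => by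
    fin_cases i
    · exact hεT 0
    · exact hε₃T) (c := g * E n₁ * g⁻¹) (fun i => by
    fin_cases i
    · exact hconj h1
    · show _ * ε 1 = ε₃ * _
      rw [← hε₃']
      exact hconj h2)
  obtain ⟨w₂, hw₂⟩ := exists_act hp cs hk p (s := ε) (t := ![ε₃, ε 1]) hεT (fun i => by
    fin_cases i
    · exact hε₃T
    · exact hεT 1) (c := g * E n₂ * g⁻¹) (fun i => by
    fin_cases i
    · show _ * ε 0 = ε₃ * _
      rw [← hε₃']
      exact hconj h4
    · exact hconj h3)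
  have h10 : ∀ x, t 0 (rep cs hp.isCartan w₁ x) = t 0 x := by
    intro x
    have h6 : cX hp (ε 0) (rep cs hp.isCartan w₁ x) = cX hp (ε 0) x := hw₁ 0 x
    rwa [hL, hL, zpow_eq_iff hζ hs.ne_zero] at h6
  have h11 : ∀ x, t 1 (rep cs hp.isCartan w₁ x) = - t 0 x - t 1 x := by
    intro x
    have h6 : cX hp ε₃ (rep cs hp.isCartan w₁ x) = cX hp (ε 1) x := hw₁ 1 x
    rw [hc₃, hL, zpow_eq_iff hζ hs.ne_zero] at h6
    push_cast at h6
    have h7 := h10 x
    rw [htL, htL] at h7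
    rw [htL, htL, htL]
    linear_combination -h6 - h7
  have h21 : ∀ x, t 1 (rep cs hp.isCartan w₂ x) = t 1 x := by
    intro x
    have h6 : cX hp (ε 1) (rep cs hp.isCartan w₂ x) = cX hp (ε 1) x := hw₂ 1 x
    rwa [hL, hL, zpow_eq_iff hζ hs.ne_zero] at h6
  have h20 : ∀ x, t 0 (rep cs hp.isCartan w₂ x) = - t 0 x - t 1 x := by
    intro x
    have h6 : cX hp ε₃ (rep cs hp.isCartan w₂ x) = cX hp (ε 0) x := hw₂ 0 x
    rw [hc₃, hL, zpow_eq_iff hζ hs.ne_zero] at h6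
    push_cast at h6
    have h7 := h21 x
    rw [htL, htL] at h7
    rw [htL, htL, htL]
    linear_combination -h6 - h7
  -- independence
  have hindt : ∀ c : Fin 2 → ZMod s, (∀ x, ∑ i, c i * t i x = 0) → c = 0 := by
    intro c hc
    have h6 : e 0 ^ (c 0).val * e 1 ^ (c 1).val = 1 := by
      apply hEi
      rw [map_one]
      have h7 : ε 0 ^ (c 0).val * ε 1 ^ (c 1).val = 1 := by
        refine cX_inj hp (mul_mem (pow_mem (hεT 0) _) (pow_mem (hεT 1) _)) (one_mem _) fun i => ?_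
        rw [cX_one, cX_mul hp (pow_mem (hεT 0) _) (pow_mem (hεT 1) _), cX_pow hp (hεT 0), cX_pow hp (hεT 1), hL, hL,
          ← zpow_natCast, ← zpow_natCast, ← zpow_mul, ← zpow_mul, ← zpow_add₀ hζ0, ← zpow_zero ζ,
          zpow_eq_iff hζ hs.ne_zero]
        have h8 := hc (sr i)
        rw [Fin.sum_univ_two, htL, htL] at h8
        push_cast
        rw [ZMod.natCast_zmod_val, ZMod.natCast_zmod_val]
        linear_combination h8
      have h8 : (g * E (e 0) * g⁻¹) ^ (c 0).val * (g * E (e 1) * g⁻¹) ^ (c 1).val = 1 := h7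
      rw [conj_pow, conj_pow] at h8
      have h9 : g * (E (e 0) ^ (c 0).val * E (e 1) ^ (c 1).val) * g⁻¹ = 1 := by rw [← h8]; group
      rw [map_mul, map_pow, map_pow]
      exact (conj_eq_one_iff).1 h9
    have h7 := hind (fun i => (c i).val) h6
    funext i
    have h8 := h7 i
    rw [← ZMod.natCast_zmod_val (c i), (ZMod.natCast_eq_zero_iff _ _).2 h8]
    rfl
  -- a root
  by_cases hroot : ∃ a, IsRoot cs hp.isCartan a ∧ t 0 a = 0
  · obtain ⟨a, ha, ha0⟩ := hroot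
    exact no_config h5 hp cs (j := -((p ^ f : ℕ) : ZMod s)) (by rw [neg_sq, hq1]) hindt h0 h10 h11 h21 h20 ha ha0
  · have hw1 : w₁ = 1 := by
      refine stab_eq_one' hp cs (hεT 0) hk p hs (ndvd_W hs h5) (m := 1) (V := ⊥) (fun a _ => ?_) (fun a ha h6 => ?_)
        (fun v hv x => ?_) (fun v hv hv1 => absurd (Subgroup.mem_bot.1 hv) hv1) (fun a _ => ?_)
      · rw [one_mul, ← cX_pow hp (hεT 0), hεs, cX_one]
      · rw [pow_one] at h6
        exact absurd ⟨a, ha, (hone 0 a).2 h6⟩ hroot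
      · rw [Subgroup.mem_bot.1 hv, map_one, Module.End.one_apply, sub_self]
        exact zero_mem _
      · exact hw₁ 0 a
    have h6 : (![1, 2] : Fin 2 → ZMod s) = 0 := by
      apply hindt
      intro x
      have h7 := h11 x
      rw [hw1, map_one, Module.End.one_apply] at h7
      rw [Fin.sum_univ_two]
      show 1 * t 0 x + 2 * t 1 x = 0
      linear_combination h7
    exact one_ne_zero (congrFun h6 0)

end Main

end Cfsg.Agent.H824.Wei
end

-- part: H824/Wei/KillU3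
section
/-!
# `F₄(q)` has no subgroup `PSU₃(q²)` (helper824)
-/

set_option autoImplicit false

namespace Cfsg.Agent.H824.Wei

open Cfsg Cfsg.Agent.OrdDiv Cfsg.Agent.H436 Cfsg.Lie Matrix

section SU

variable {F : Type} [Field F] {Q s : ℕ} {η θ : F}

theorem mem_SU {g : Matrix.SpecialLinearGroup (Fin 3) F} : g ∈ SU 3 F Q ↔
    ∀ u v : Fin 3 → F, hermForm 3 F Q ((g : Matrix (Fin 3) (Fin 3) F) *ᵥ u) ((g : Matrix (Fin 3) (Fin 3) F) *ᵥ v) =
      hermForm 3 F Q u v := Iff.rfl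

/-- the diagonal matrix with entries `a b c` -/
def dg (a b c : F) (h : a * b * c = 1) : Matrix.SpecialLinearGroup (Fin 3) F :=
  ⟨!![a, 0, 0; 0, b, 0; 0, 0, c], by rw [Matrix.det_fin_three]; simp [h]⟩

theorem dg_mem {a b c : F} (h : a * b * c = 1) (ha : a ^ (Q + 1) = 1) (hb : b ^ (Q + 1) = 1) (hc : c ^ (Q + 1) = 1) :
    dg a b c h ∈ SU 3 F Q := by
  rw [mem_SU]
  intro u v
  simp only [hermForm, dg, Fin.sum_univ_three, Matrix.mulVec, dotProduct, Matrix.of_apply, Matrix.cons_val_zero,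
    Matrix.cons_val_one, Matrix.cons_val, zero_mul, add_zero, zero_add, mul_pow]
  rw [pow_succ] at ha hb hc
  linear_combination (u 0 * v 0 ^ Q) * ha + (u 1 * v 1 ^ Q) * hb + (u 2 * v 2 ^ Q) * hc

/-- minus the permutation of the last two vectors -/
def s1 : Matrix.SpecialLinearGroup (Fin 3) F :=
  ⟨!![-1, 0, 0; 0, 0, -1; 0, -1, 0], by rw [Matrix.det_fin_three]; simp⟩

/-- minus the permutation of the first and the last vector -/
def s2 : Matrix.SpecialLinearGroup (Fin 3) F :=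
  ⟨!![0, 0, -1; 0, -1, 0; -1, 0, 0], by rw [Matrix.det_fin_three]; simp⟩

theorem s1_mem (hQ : (-1 : F) ^ (Q + 1) = 1) : s1 ∈ SU 3 F Q := by
  rw [mem_SU]
  intro u v
  simp only [hermForm, s1, Fin.sum_univ_three, Matrix.mulVec, dotProduct, Matrix.of_apply, Matrix.cons_val_zero,
    Matrix.cons_val_one, Matrix.cons_val, zero_mul, add_zero, zero_add, mul_pow]
  rw [pow_succ] at hQ
  linear_combination (u 0 * v 0 ^ Q + u 1 * v 1 ^ Q + u 2 * v 2 ^ Q) * hQ

theorem s2_mem (hQ : (-1 : F) ^ (Q + 1) = 1) : s2 ∈ SU 3 F Q := by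
  rw [mem_SU]
  intro u v
  simp only [hermForm, s2, Fin.sum_univ_three, Matrix.mulVec, dotProduct, Matrix.of_apply, Matrix.cons_val_zero,
    Matrix.cons_val_one, Matrix.cons_val, zero_mul, add_zero, zero_add, mul_pow]
  rw [pow_succ] at hQ
  linear_combination (u 0 * v 0 ^ Q + u 1 * v 1 ^ Q + u 2 * v 2 ^ Q) * hQ

theorem dg_mul {a b c a' b' c' : F} (h : a * b * c = 1) (h' : a' * b' * c' = 1) :
    dg a b c h * dg a' b' c' h' = dg (a * a') (b * b') (c * c') (by linear_combination h * (a' * b' * c') + h') := by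
  apply Subtype.ext
  show (!![a, 0, 0; 0, b, 0; 0, 0, c] * !![a', 0, 0; 0, b', 0; 0, 0, c'] : Matrix (Fin 3) (Fin 3) F) = _
  ext i j
  (revert i j; simp only [dg, Matrix.mul_apply, Fin.sum_univ_three, _root_.Fin.forall_fin_succ, _root_.Matrix.of_apply, _root_.Matrix.cons_val', _root_.Matrix.cons_val_fin_one, Fin.isValue, _root_.Matrix.cons_val_zero, _root_.Matrix.cons_val_one, _root_.Matrix.cons_val, _root_.MulZeroClass.mul_zero, _root_.add_zero, _root_.Matrix.cons_val_succ, _root_.zero_add, _root_.forall_const, _root_.MulZeroClass.zero_mul, _root_.and_self, _root_.implies_true])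

theorem dg_one : dg (1 : F) 1 1 (by ring) = 1 := by
  apply Subtype.ext
  ext i j
  (revert i j; simp only [dg, _root_.Fin.forall_fin_succ, _root_.Matrix.of_apply, _root_.Matrix.cons_val', _root_.Matrix.cons_val_fin_one, _root_.Matrix.SpecialLinearGroup.coe_one, Fin.isValue, _root_.Matrix.cons_val_zero, _root_.Matrix.cons_val_succ, _root_.IsEmpty.forall_iff, _root_.and_true, _root_.Matrix.one_apply_eq, Nat.reduceAdd, _root_.Fin.succ_zero_eq_one, _root_.ne_eq, _root_.zero_ne_one, _root_.not_false_eq_true, _root_.Matrix.one_apply_ne, _root_.Fin.succ_one_eq_two, Fin.reduceEq, _root_.and_self, _root_.Fin.succ_ne_zero, _root_.true_and])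

theorem dg_pow {a b c : F} (h : a * b * c = 1) (n : ℕ) :
    dg a b c h ^ n = dg (a ^ n) (b ^ n) (c ^ n) (by rw [← mul_pow, ← mul_pow, h, one_pow]) := by
  induction n with
  | zero =>
    rw [pow_zero, ← dg_one]
    congr 1 <;> simp
  | succ n ih =>
    rw [pow_succ, ih, dg_mul]
    congr 1 <;> rw [pow_succ]

theorem s1_dg {a b c : F} (h : a * b * c = 1) : s1 * dg a b c h = dg a c b (by rw [← h]; ring) * s1 := by
  apply Subtype.ext
  show (!![-1, 0, 0; 0, 0, -1; 0, -1, 0] * !![a, 0, 0; 0, b, 0; 0, 0, c] : Matrix (Fin 3) (Fin 3) F) =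
    (!![a, 0, 0; 0, c, 0; 0, 0, b] * !![-1, 0, 0; 0, 0, -1; 0, -1, 0] : Matrix (Fin 3) (Fin 3) F)
  ext i j
  (revert i j; simp only [Matrix.mul_apply, Fin.sum_univ_three, _root_.Fin.forall_fin_succ, _root_.Matrix.of_apply, _root_.Matrix.cons_val', _root_.Matrix.cons_val_fin_one, Fin.isValue, _root_.Matrix.cons_val_zero, _root_.Matrix.cons_val_one, _root_.Matrix.cons_val, _root_.MulZeroClass.mul_zero, _root_.add_zero, _root_.mul_neg, _root_.mul_one, _root_.Matrix.cons_val_succ, _root_.zero_add, _root_.forall_const, _root_.neg_mul, _root_.one_mul, _root_.MulZeroClass.zero_mul, _root_.neg_zero, _root_.and_self, _root_.implies_true])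

theorem s2_dg {a b c : F} (h : a * b * c = 1) : s2 * dg a b c h = dg c b a (by rw [← h]; ring) * s2 := by
  apply Subtype.ext
  show (!![0, 0, -1; 0, -1, 0; -1, 0, 0] * !![a, 0, 0; 0, b, 0; 0, 0, c] : Matrix (Fin 3) (Fin 3) F) =
    (!![c, 0, 0; 0, b, 0; 0, 0, a] * !![0, 0, -1; 0, -1, 0; -1, 0, 0] : Matrix (Fin 3) (Fin 3) F)
  ext i j
  (revert i j; simp only [Matrix.mul_apply, Fin.sum_univ_three, _root_.Fin.forall_fin_succ, _root_.Matrix.of_apply, _root_.Matrix.cons_val', _root_.Matrix.cons_val_fin_one, Fin.isValue, _root_.Matrix.cons_val_zero, _root_.Matrix.cons_val_one, _root_.Matrix.cons_val, _root_.MulZeroClass.mul_zero, _root_.add_zero, _root_.mul_neg, _root_.mul_one, _root_.zero_add, _root_.Matrix.cons_val_succ, _root_.forall_const, _root_.MulZeroClass.zero_mul, _root_.neg_zero, _root_.neg_mul, _root_.one_mul, _root_.and_self, _root_.implies_true])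

theorem dg_inj {a b c a' b' c' : F} {h : a * b * c = 1} {h' : a' * b' * c' = 1} (e : dg a b c h = dg a' b' c' h') :
    a = a' ∧ b = b' ∧ c = c' := by
  have h1 := congrArg (fun g : Matrix.SpecialLinearGroup (Fin 3) F => (g : Matrix (Fin 3) (Fin 3) F)) e
  refine ⟨?_, ?_, ?_⟩
  · have := congrFun (congrFun h1 0) 0
    simpa [dg] using this
  · have := congrFun (congrFun h1 1) 1
    simpa [dg] using this
  · have := congrFun (congrFun h1 2) 2
    simpa [dg] using this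

theorem neg_one_pow_Q [Fintype F] (hF : Fintype.card F = Q ^ 2) : (-1 : F) ^ (Q + 1) = 1 := by
  rcases Nat.even_or_odd Q with h | h
  · have h1 : ringChar F = 2 := by
      rw [FiniteField.even_card_iff_char_two, hF, ← Nat.even_iff]
      exact h.pow_of_ne_zero (by norm_num)
    have h2 : CharP F 2 := by rw [← h1]; exact ringChar.charP F
    rw [CharTwo.neg_eq, one_pow]
  · exact (h.add_odd odd_one).neg_one_pow

/-- **The configuration in `PSU₃(Q)`.** -/
theorem exists_conf [Fintype F] (hF : Fintype.card F = Q ^ 2) (hs : s.Prime) (h5 : 5 ≤ s) (hsQ : s ∣ Q + 1) :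
    ∃ (e : Fin 2 → PSU 3 F Q) (n₁ n₂ : PSU 3 F Q), (∀ i, e i ^ s = 1) ∧ e 0 * e 1 = e 1 * e 0 ∧
      (∀ c : Fin 2 → ℕ, e 0 ^ c 0 * e 1 ^ c 1 = 1 → ∀ i, s ∣ c i) ∧ n₁ * e 0 = e 0 * n₁ ∧
      n₁ * e 1 = (e 0 * e 1)⁻¹ * n₁ ∧ n₂ * e 1 = e 1 * n₂ ∧ n₂ * e 0 = (e 0 * e 1)⁻¹ * n₂ := by
  classical
  have hsF : Fact s.Prime := ⟨hs⟩
  have hm1 := neg_one_pow_Q hF
  obtain ⟨u, hu⟩ := exists_prime_orderOf_dvd_card' (G := Fˣ) s (by
    rw [Nat.card_eq_fintype_card, Fintype.card_units, hF]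
    have h1 : Q ^ 2 - 1 = (Q + 1) * (Q - 1) := by
      have := Nat.sq_sub_sq Q 1
      rwa [one_pow] at this
    rw [h1]
    exact hsQ.mul_right _)
  obtain ⟨η, hη⟩ : ∃ η : F, η = (u : F) := ⟨_, rfl⟩
  have hord : orderOf η = s := by rw [hη, orderOf_units, hu]
  have hηs : η ^ s = 1 := by rw [← hord, pow_orderOf_eq_one]
  have hη0 : η ≠ 0 := by rw [hη]; exact u.ne_zero
  have hηQ : η ^ (Q + 1) = 1 := by
    obtain ⟨m, hm⟩ := hsQ
    rw [hm, pow_mul, hηs, one_pow]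
  obtain ⟨θ, hθ⟩ : ∃ θ : F, θ = η ^ (s - 2) := ⟨_, rfl⟩
  have hθη : θ * η * η = 1 := by
    rw [hθ, mul_assoc, ← sq, ← pow_add]
    have : s - 2 + 2 = s := by omega
    rw [this, hηs]
  have hθs : θ ^ s = 1 := by rw [hθ, ← pow_mul, mul_comm, pow_mul, hηs, one_pow]
  have hθQ : θ ^ (Q + 1) = 1 := by rw [hθ, ← pow_mul, mul_comm, pow_mul, hηQ, one_pow]
  have hηθη : η * θ * η = 1 := by rw [mul_comm η θ, hθη]
  have hx0 : dg θ η η hθη ∈ SU 3 F Q := dg_mem hθη hθQ hηQ hηQ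
  have hx1 : dg η θ η hηθη ∈ SU 3 F Q := dg_mem hηθη hηQ hθQ hηQ
  obtain ⟨x0, hx0'⟩ : ∃ x : SU 3 F Q, x = ⟨_, hx0⟩ := ⟨_, rfl⟩
  obtain ⟨x1, hx1'⟩ : ∃ x : SU 3 F Q, x = ⟨_, hx1⟩ := ⟨_, rfl⟩
  obtain ⟨y1, hy1⟩ : ∃ x : SU 3 F Q, x = ⟨_, s1_mem hm1⟩ := ⟨_, rfl⟩
  obtain ⟨y2, hy2⟩ : ∃ x : SU 3 F Q, x = ⟨_, s2_mem hm1⟩ := ⟨_, rfl⟩
  have hdg : ∀ {a b c a' b' c' : F} {h : a * b * c = 1} {h' : a' * b' * c' = 1}, a = a' → b = b' → c = c' →
      dg a b c h = dg a' b' c' h' := by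
    intro a b c a' b' c' h h' e1 e2 e3
    subst e1 e2 e3
    rfl
  have r1 : x0 ^ s = 1 := by
    apply Subtype.ext
    rw [hx0']
    show dg θ η η hθη ^ s = 1
    rw [dg_pow, ← dg_one]
    exact hdg hθs hηs hηs
  have r2 : x1 ^ s = 1 := by
    apply Subtype.ext
    rw [hx1']
    show dg η θ η hηθη ^ s = 1
    rw [dg_pow, ← dg_one]
    exact hdg hηs hθs hηs
  have r3 : x0 * x1 = x1 * x0 := by
    apply Subtype.ext
    rw [hx0', hx1']
    show dg θ η η hθη * dg η θ η hηθη = dg η θ η hηθη * dg θ η η hθη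
    rw [dg_mul, dg_mul]
    exact hdg (mul_comm _ _) (mul_comm _ _) rfl
  have r4 : y1 * x0 = x0 * y1 := by
    apply Subtype.ext
    rw [hx0', hy1]
    show s1 * dg θ η η hθη = dg θ η η hθη * s1
    rw [s1_dg]
  have r5 : y2 * x1 = x1 * y2 := by
    apply Subtype.ext
    rw [hx1', hy2]
    show s2 * dg η θ η hηθη = dg η θ η hηθη * s2
    rw [s2_dg]
  have r6 : (x0 * x1) * (y1 * x1) = y1 := by
    apply Subtype.ext
    rw [hx0', hx1', hy1]
    show (dg θ η η hθη * dg η θ η hηθη) * (s1 * dg η θ η hηθη) = s1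
    rw [s1_dg, ← mul_assoc, dg_mul, dg_mul]
    have e : ∀ {a b c : F} {h : a * b * c = 1}, a = 1 → b = 1 → c = 1 → dg a b c h * s1 = s1 := by
      intro a b c h h1 h2 h3
      subst h1 h2 h3
      rw [dg_one, one_mul]
    exact e (by rw [← hθη]) (by rw [← hθη]; ring) (by rw [← hθη]; ring)
  have r7 : (x0 * x1) * (y2 * x0) = y2 := by
    apply Subtype.ext
    rw [hx0', hx1', hy2]
    show (dg θ η η hθη * dg η θ η hηθη) * (s2 * dg θ η η hθη) = s2
    rw [s2_dg, ← mul_assoc, dg_mul, dg_mul]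
    have e : ∀ {a b c : F} {h : a * b * c = 1}, a = 1 → b = 1 → c = 1 → dg a b c h * s2 = s2 := by
      intro a b c h h1 h2 h3
      subst h1 h2 h3
      rw [dg_one, one_mul]
    exact e (by rw [← hθη]) (by rw [← hθη]; ring) (by rw [← hθη]; ring)
  let π := QuotientGroup.mk' (Subgroup.center (SU 3 F Q))
  refine ⟨![π x0, π x1], π y1, π y2, ?_, ?_, ?_, ?_, ?_, ?_, ?_⟩
  · intro i
    fin_cases i
    · show π x0 ^ s = 1
      rw [← map_pow, r1, map_one]
    · show π x1 ^ s = 1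
      rw [← map_pow, r2, map_one]
  · show π x0 * π x1 = π x1 * π x0
    rw [← map_mul, r3, map_mul]
  · intro c hc
    have h1 : π (x0 ^ c 0 * x1 ^ c 1) = 1 := by
      rw [map_mul, map_pow, map_pow]
      exact hc
    have h2 : x0 ^ c 0 * x1 ^ c 1 ∈ Subgroup.center (SU 3 F Q) := (QuotientGroup.eq_one_iff _).1 h1
    rw [Subgroup.mem_center_iff] at h2
    have h3 := congrArg Subtype.val (h2 y1)
    have h4 := congrArg Subtype.val (h2 y2)
    rw [hx0', hx1', hy1] at h3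
    rw [hx0', hx1', hy2] at h4
    have e3 : s1 * (dg θ η η hθη ^ c 0 * dg η θ η hηθη ^ c 1) = (dg θ η η hθη ^ c 0 * dg η θ η hηθη ^ c 1) * s1 := h3
    have e4 : s2 * (dg θ η η hθη ^ c 0 * dg η θ η hηθη ^ c 1) = (dg θ η η hθη ^ c 0 * dg η θ η hηθη ^ c 1) * s2 := h4
    rw [dg_pow, dg_pow, dg_mul, s1_dg] at e3
    rw [dg_pow, dg_pow, dg_mul, s2_dg] at e4
    obtain ⟨-, e5, -⟩ := dg_inj (mul_right_cancel e3)
    obtain ⟨e6, -, -⟩ := dg_inj (mul_right_cancel e4)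
    have key : ∀ n : ℕ, θ ^ n = η ^ n → s ∣ n := by
      intro n hn
      have h6 : η ^ (3 * n) = 1 := by
        have h7 : (θ * η * η) ^ n = 1 := by rw [hθη, one_pow]
        rw [mul_pow, mul_pow, hn] at h7
        rw [← h7]; ring
      have h7 : s ∣ 3 * n := hord ▸ orderOf_dvd_of_pow_eq_one h6
      rcases hs.dvd_mul.1 h7 with h8 | h8
      · have := Nat.le_of_dvd (by norm_num) h8
        omega
      · exact h8
    intro i
    fin_cases i
    · apply key
      exact mul_right_cancel₀ (pow_ne_zero _ hη0) e6.symm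
    · apply key
      exact mul_left_cancel₀ (pow_ne_zero _ hη0) e5.symm
  · show π y1 * π x0 = π x0 * π y1
    rw [← map_mul, r4, map_mul]
  · show π y1 * π x1 = (π x0 * π x1)⁻¹ * π y1
    rw [eq_inv_mul_iff_mul_eq, ← map_mul, ← map_mul, ← map_mul, r6]
  · show π y2 * π x1 = π x1 * π y2
    rw [← map_mul, r5, map_mul]
  · show π y2 * π x0 = (π x0 * π x1)⁻¹ * π y2
    rw [eq_inv_mul_iff_mul_eq, ← map_mul, ← map_mul, ← map_mul, r7]

end SU

/-- **`F₄(q)` has no subgroup `PSU₃(q²)`.** -/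
theorem no_U3 {K : Type} [Field K] [Fintype K] {q : ℕ} (hK : Fintype.card K = q) {S : Type} [Group S]
    (hS : IsNamed (.psu 3 (q ^ 2)) S) (φ : S →* ↥(chevF4.group K)) (hφ : Function.Injective φ) : False := by
  have hq2 : 2 ≤ q := by
    rw [← hK]
    exact Fintype.one_lt_card
  obtain ⟨s, hs⟩ := exists_prim (q := q) (e := 4) hq2 (by norm_num) (by omega)
  have h5 : 5 ≤ s := by
    have := Cfsg.Agent.H563.KG.lt_of_prim hq2 (by norm_num) hs
    omega
  have hsq : s ∣ q ^ 2 + 1 := hs.dvd_add (by norm_num) (by norm_num)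
  obtain ⟨F, _, _, hF, ⟨Φ⟩⟩ : ∃ (F : Type) (_ : Field F) (_ : Fintype F), Fintype.card F = (q ^ 2) ^ 2 ∧
      Nonempty (S ≃* PSU 3 F (q ^ 2)) := hS.real
  obtain ⟨e, n₁, n₂, h1, h2, h3, h4, h6, h7, h8⟩ := exists_conf hF hs.prime h5 hsq
  let ψ : PSU 3 F (q ^ 2) →* ↥(chevF4.group K) := φ.comp Φ.symm.toMonoidHom
  have hψ : Function.Injective ψ := hφ.comp Φ.symm.injective
  refine no_tor hK hs.prime h5 hsq (e := fun i => ψ (e i)) (n₁ := ψ n₁) (n₂ := ψ n₂) ?_ ?_ ?_ ?_ ?_ ?_ ?_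
  · intro i
    show ψ (e i) ^ s = 1
    rw [← map_pow, h1, map_one]
  · rw [← map_mul, h2, map_mul]
  · intro c hc
    apply h3 c
    apply hψ
    rw [map_one, ← hc, map_mul, map_pow, map_pow]
  · rw [← map_mul, h4, map_mul]
  · rw [← map_mul, ← map_mul, ← map_inv, ← map_mul, h6]
  · rw [← map_mul, h7, map_mul]
  · rw [← map_mul, ← map_mul, ← map_inv, ← map_mul, h8]

end Cfsg.Agent.H824.Wei
end

-- part: H824/Wei/OverF4
section
/-!
# Overgroups of the torus of class 12 of `F₄(q)`, `q > 2` (helper824)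

`over_F4` : a proper subgroup of `F₄(q)`, `q > 2`, containing an element `x` of order `q^4 - q^2 + 1`, normalises `⟨x⟩` or
has a simple normal subgroup `³D₄(q)` with trivial centraliser, which contains `x`.
-/

set_option autoImplicit false

namespace Cfsg.Agent.H824.Wei

open Cfsg Cfsg.Agent.OrdDiv Cfsg.Agent.H436 Cfsg.Agent.H56.Wei Cfsg.Agent.H563.KG

universe u v

/-- transport of `Over` along an isomorphism -/
theorem over_congr {T : Type u} [Group T] {T' : Type v} [Group T'] (e : T ≃* T') {x : T} {P : Grp → Prop}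
    (hP : ∀ g, P g → ∀ (S : Type u) [Group S] (S' : Type v) [Group S'], (S ≃* S') → IsNamed g S' → IsNamed g S)
    (h : Over (e x) P) : Over x P := by
  intro H hx hH
  have hx' : e x ∈ H.map e.toMonoidHom := ⟨x, hx, rfl⟩
  have hH' : H.map e.toMonoidHom ≠ ⊤ := by
    intro h1
    apply hH
    rw [eq_top_iff]
    intro y _
    have h2 : e y ∈ H.map e.toMonoidHom := by rw [h1]; exact Subgroup.mem_top _
    obtain ⟨z, hz, hzy⟩ := h2
    rwa [← e.injective hzy]
  rcases h _ hx' hH' with h1 | ⟨S, hSn, hSs, hSna, hSc, hxS, g, hg, hgS⟩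
  · left
    intro y hy
    have h2 := h1 ⟨y, hy, rfl⟩
    rw [Subgroup.mem_normalizer_iff] at h2 ⊢
    have key : ∀ a : T, a ∈ Subgroup.zpowers x ↔ e a ∈ Subgroup.zpowers (e x) := by
      intro a
      constructor
      · rintro ⟨k, rfl⟩
        exact ⟨k, (map_zpow e x k).symm⟩
      · rintro ⟨k, hk⟩
        refine ⟨k, e.injective ?_⟩
        rw [map_zpow]
        exact hk
    intro a
    have h3 := h2 (e a)
    rw [key, key, h3]
    have e1 : e.toMonoidHom y * e a * (e.toMonoidHom y)⁻¹ = e (y * a * y⁻¹) := by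
      rw [map_mul, map_mul, map_inv]; rfl
    rw [e1]
  · right
    have hf0 : ∀ y : H, e (y : T) ∈ H.map e.toMonoidHom := fun y => ⟨y, y.2, rfl⟩
    let f : H ≃* ↥(H.map e.toMonoidHom) := H.equivMapOfInjective e.toMonoidHom e.injective
    have hf : ∀ y : H, ((f y : ↥(H.map e.toMonoidHom)) : T') = e (y : T) := fun y => rfl
    have hSn' : S.Normal := hSn
    let S₁ : Subgroup H := S.comap f.toMonoidHom
    have hmem : ∀ y : H, y ∈ S₁ ↔ f y ∈ S := fun y => Iff.rfl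
    have hn : S₁.Normal := hSn.comap _
    -- the isomorphism
    let φ : ↥S₁ ≃* ↥S :=
      { toFun := fun y => ⟨f y.1, y.2⟩
        invFun := fun y => ⟨f.symm y.1, by rw [hmem, MulEquiv.apply_symm_apply]; exact y.2⟩
        left_inv := fun y => Subtype.ext (f.symm_apply_apply _)
        right_inv := fun y => Subtype.ext (f.apply_symm_apply _)
        map_mul' := fun a b => Subtype.ext (map_mul f _ _) }
    have hs : IsSimpleGroup ↥S₁ := by
      have := hSs
      exact φ.isSimpleGroup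
    refine ⟨S₁, hn, hs, ?_, ?_, ?_, g, hg, hP g hg _ _ φ hgS⟩
    · intro hc
      apply hSna
      refine ⟨⟨fun a b => ?_⟩⟩
      apply φ.symm.injective
      rw [map_mul, map_mul]
      exact hc.is_comm.comm _ _
    · rw [eq_bot_iff]
      intro c hcc
      rw [Subgroup.mem_bot]
      have h3 : f c ∈ Subgroup.centralizer (S : Set ↥(H.map e.toMonoidHom)) := by
        rw [Subgroup.mem_centralizer_iff]
        intro a ha
        have h4 : f.symm a ∈ S₁ := by rw [hmem, MulEquiv.apply_symm_apply]; exact ha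
        have h5 := Subgroup.mem_centralizer_iff.1 hcc _ h4
        have h6 := congrArg f h5
        rwa [map_mul, map_mul, MulEquiv.apply_symm_apply] at h6
      rw [hSc, Subgroup.mem_bot] at h3
      exact f.injective (by rw [h3, map_one])
    · rw [hmem]
      exact hxS

/-- **Overgroups of the torus of class 12 of `F₄(q)`, `q > 2`, in the matrix group.** -/
theorem over_F4_mat {F : Type} [Field F] [Fintype F] {q : ℕ} (hF : Fintype.card F = q) (hq : 2 < q)
    {x : ↥(Lie.chevF4.group F)} (hx : orderOf x = q ^ 4 - q ^ 2 + 1) : Over x (fun g => g = .td4 q) := by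
  intro H hxH hH
  rcases red_F4 table cycFixSolv cf hF hq H hx hxH hH with h | ⟨S, hSn, hSs, hSna, hSc, hxS, g, hg, hcase⟩
  · left
    intro y hy
    rw [Subgroup.mem_normalizer_iff]
    have key : ∀ a : ↥(Lie.chevF4.group F), ∀ y ∈ H, a ∈ Subgroup.zpowers x → y * a * y⁻¹ ∈ Subgroup.zpowers x := by
      rintro _ y hy ⟨k, rfl⟩
      have h1 : (⟨y, hy⟩ : H) * (⟨x, hxH⟩ : H) ^ k * (⟨y, hy⟩ : H)⁻¹ ∈ Subgroup.zpowers (⟨x, hxH⟩ : H) :=
        h.conj_mem _ ⟨k, rfl⟩ _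
      obtain ⟨m, hm⟩ := h1
      exact ⟨m, congrArg Subtype.val hm⟩
    intro a
    refine ⟨key a y hy, fun h1 => ?_⟩
    have h2 := key _ _ (inv_mem hy) h1
    have e1 : y⁻¹ * (y * a * y⁻¹) * y⁻¹⁻¹ = a := by group
    rwa [e1] at h2
  · right
    refine ⟨S, hSn, hSs, hSna, hSc, hxS, g, ?_, hg⟩
    have hfin : Finite ↥(Lie.chevF4.group F) := inferInstance
    rcases hcase with rfl | rfl | rfl
    · exact (no_U3 hF hg (H.subtype.comp S.subtype) (H.subtype_injective.comp S.subtype_injective)).elim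
    · exact (no_G2 hF hq hg (H.subtype.comp S.subtype) (H.subtype_injective.comp S.subtype_injective)).elim
    · rfl

/-- **Overgroups of the torus of class 12 of `F₄(q)`, `q > 2`.** -/
theorem over_F4 {T : Type*} [Group T] [Finite T] {q : ℕ} (hq : 2 < q) (hT : IsNamed (.f4 q) T) (x : T)
    (hx : orderOf x = q ^ 4 - q ^ 2 + 1) : Over x (fun g => g = .td4 q) := by
  obtain ⟨F, _, _, hF, ⟨e⟩⟩ := hT.real
  refine over_congr e ?_ (over_F4_mat hF hq (x := e x) (by rw [MulEquiv.orderOf_eq, hx]))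
  rintro g rfl S _ S' _ f hS
  obtain ⟨F', i1, i2, h1, ⟨e'⟩⟩ := hS.real
  exact ⟨⟨F', i1, i2, h1, ⟨f.trans e'⟩⟩, hS.cond, by rw [Nat.card_congr f.toEquiv]; exact hS.eq,
    by rw [Nat.card_congr f.toEquiv]; exact hS.ord⟩

end Cfsg.Agent.H824.Wei
end

private theorem dce_f4ae98387ee4 : _root_.True := by
  try have : _root_.True := by simp only [_root_.Cfsg.Agent.H824.Wei.sm3.eq_1]
  try have : _root_.True := by simp only [_root_.Cfsg.Agent.H563.KG.sm.eq_1]
  try have : _root_.True := by simp only [_root_.Cfsg.Agent.H129.TorusChar.cX.eq_1]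
  try have : _root_.True := by simp only [_root_.Cfsg.Agent.H952.F4.TabLin.val.eq_1]
  try have : _root_.True := by simp only [_root_.Cfsg.Agent.H824.Wei.gm.eq_1]
  try have : _root_.True := by simp only [_root_.Cfsg.Agent.H824.Wei.bf.eq_1]
  try have : _root_.True := by simp only [_root_.Cfsg.Agent.H824.Wei.bz.eq_1]
  try have : _root_.True := by simp only [_root_.Cfsg.Agent.H824.Wei.s1.eq_1]
  try have : _root_.True := by simp only [_root_.Cfsg.Agent.H824.Wei.s2.eq_1]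
  try have : _root_.True := by simp only [_root_.Cfsg.Agent.H824.Wei.rd.eq_1]
  try have : _root_.True := by simp only [_root_.Cfsg.Agent.H824.Wei.dg.eq_1]
  exact _root_.True.intro
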